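import Groth.Agent.Matlis.Hull
import Mathlib.RingTheory.SimpleModule.Basic
import Mathlib.RingTheory.AdicCompletion.Algebra
import Mathlib.RingTheory.ReesAlgebra
import Mathlib.RingTheory.Length
import Mathlib.RingTheory.HopkinsLevitzki
import Mathlib.LinearAlgebra.Dimension.Free
import Mathlib.LinearAlgebra.FiniteDimensional.Basic

/-!
# Matlis duality over a local ring

Helper library (no milestone statements here).  Throughout, `f : k → E` is an injective hull of the
residue field `k` of the local ring `R`.
-/

universe u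

namespace GrothMatlis

open InjHull IsLocalRing

section Kill

variable {R : Type u} [CommRing R] {M : Type u} [AddCommGroup M] [Module R M]

/-- A nonzero element killed by `I ^ n` has a nonzero multiple killed by `I`. -/
theorem exists_smul_torsion {I : Ideal R} :
    ∀ (n : ℕ) {x : M}, x ≠ 0 → (∀ r ∈ I ^ n, r • x = 0) →
      ∃ r : R, r • x ≠ 0 ∧ ∀ a ∈ I, a • (r • x) = 0
  | 0, x, hx, h => absurd (by simpa using h 1 (by simp)) hx
  | n + 1, x, hx, h => by
    by_cases hall : ∀ r ∈ I ^ n, r • x = 0
    · exact exists_smul_torsion n hx hall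
    · push Not at hall
      obtain ⟨r, hr, hr0⟩ := hall
      refine ⟨r, hr0, fun a ha => ?_⟩
      rw [← mul_smul]
      exact h _ (by rw [pow_succ']; exact Ideal.mul_mem_mul ha hr)

end Kill

variable {R : Type u} [CommRing R] [IsLocalRing R]
variable {E : Type u} [AddCommGroup E] [Module R E]
variable {f : IsLocalRing.ResidueField R →ₗ[R] E}

theorem smul_residueField_eq_zero {r : R} (hr : r ∈ maximalIdeal R) (x : ResidueField R) :
    r • x = 0 := by
  rw [Algebra.smul_def, ResidueField.algebraMap_eq, (residue_eq_zero_iff r).2 hr, zero_mul]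

/-- The socle of the hull is the residue field. -/
theorem socle_eq (hf : IsEssentialInj f) :
    LocCoh.torsionBy (maximalIdeal R) E = LinearMap.range f := by
  refine le_antisymm (fun x hx => ?_) ?_
  · rcases eq_or_ne x 0 with rfl | hx0
    · exact zero_mem _
    obtain ⟨r, hr, hr0⟩ := IsEssentialInj.exists_smul hf hx0
    have hu : IsUnit r := notMem_maximalIdeal.1 fun h =>
      hr0 ((Submodule.mem_torsionBySet_iff _ _).1 hx ⟨r, h⟩)
    obtain ⟨u, rfl⟩ := hu
    have := (LinearMap.range f).smul_mem (↑u⁻¹ : R) hr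
    rwa [← mul_smul, Units.inv_mul, one_smul] at this
  · rintro x ⟨y, rfl⟩
    rw [Submodule.mem_torsionBySet_iff]
    intro r
    rw [← map_smul, smul_residueField_eq_zero r.2, map_zero]

theorem exists_dual_ne_zero (hf : IsInjectiveHull f) {M : Type u} [AddCommGroup M] [Module R M]
    {x : M} (hx : x ≠ 0) : ∃ φ : M →ₗ[R] E, φ x ≠ 0 := by
  let s := LinearMap.toSpanSingleton R M x
  have hker : LinearMap.ker s ≤ maximalIdeal R := le_maximalIdeal fun h => hx (by
    have : (1 : R) ∈ LinearMap.ker s := h ▸ Submodule.mem_top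
    simpa [s] using this)
  let q : (R ⧸ LinearMap.ker s) →ₗ[R] E :=
    (LinearMap.ker s).liftQ (f ∘ₗ Algebra.linearMap R (ResidueField R)) fun r hr => by
      have : Algebra.linearMap R (ResidueField R) r = 0 := (residue_eq_zero_iff r).2 (hker hr)
      simp [this]
  obtain ⟨φ, hφ⟩ := hf.isInjective.out ((LinearMap.ker s).liftQ s le_rfl)
    (LinearMap.ker_eq_bot.1 (Submodule.ker_liftQ_eq_bot _ _ _ le_rfl)) q
  refine ⟨φ, ?_⟩
  have h := hφ (Submodule.Quotient.mk 1)
  rw [Submodule.liftQ_apply, show s 1 = x by simp [s], Submodule.liftQ_apply, LinearMap.comp_apply,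
    Algebra.linearMap_apply, map_one] at h
  rw [h]
  exact fun h0 => one_ne_zero (hf.injective (h0.trans (map_zero f).symm))

theorem applyₗ_injective (hf : IsInjectiveHull f) (M : Type u) [AddCommGroup M] [Module R M] :
    Function.Injective (LinearMap.applyₗ : M →ₗ[R] (M →ₗ[R] E) →ₗ[R] E) := by
  rw [← LinearMap.ker_eq_bot, Submodule.eq_bot_iff]
  intro x hx
  by_contra h0
  obtain ⟨φ, hφ⟩ := exists_dual_ne_zero hf h0
  exact hφ (LinearMap.congr_fun (LinearMap.mem_ker.1 hx) φ)

theorem annihilator_dual_eq (hf : IsInjectiveHull f) (M : Type u) [AddCommGroup M] [Module R M] :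
    Module.annihilator R M = Module.annihilator R (M →ₗ[R] E) := by
  ext r
  simp only [Module.mem_annihilator]
  refine ⟨fun h φ => LinearMap.ext fun x => by rw [LinearMap.smul_apply, ← map_smul, h x, map_zero,
    LinearMap.zero_apply], fun h x => applyₗ_injective hf M ?_⟩
  ext φ
  simpa using LinearMap.congr_fun (h φ) x

theorem length_dual_simple (hf : IsInjectiveHull f) (M : Type u) [AddCommGroup M] [Module R M]
    [IsSimpleModule R M] : Module.length R (M →ₗ[R] E) = 1 := by
  obtain ⟨m, hm, ⟨e⟩⟩ := (isSimpleModule_iff_quot_maximal (R := R) (M := M)).1 inferInstance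
  obtain rfl := eq_maximalIdeal hm
  have hnt : Nontrivial (ResidueField R →ₗ[R] E) := ⟨f, 0, fun h => one_ne_zero (α := ResidueField R)
    (hf.injective (by simp [h]))⟩
  let g : ResidueField R →ₗ[R] (ResidueField R →ₗ[R] E) :=
    { toFun := fun c => f ∘ₗ LinearMap.mulLeft R c
      map_add' := fun a b => by ext; simp [add_mul]
      map_smul' := fun r a => by ext; simp }
  have hg : Function.Bijective g := by
    refine ⟨fun a b hab => ?_, fun φ => ?_⟩
    · simpa using hf.injective (LinearMap.congr_fun hab 1)
    · obtain ⟨c, hc⟩ : φ 1 ∈ LinearMap.range f := by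
        rw [← socle_eq hf.toIsEssentialInj, Submodule.mem_torsionBySet_iff]
        exact fun r => by rw [← map_smul, smul_residueField_eq_zero r.2, map_zero]
      refine ⟨c, LinearMap.ext fun x => ?_⟩
      obtain ⟨r, rfl⟩ := residue_surjective x
      show f (c * residue R r) = φ (residue R r)
      rw [show residue R r = r • (1 : ResidueField R) by simp [Algebra.smul_def], map_smul, ← hc,
        mul_smul_comm, mul_one, map_smul]
  have hs : IsSimpleModule R (ResidueField R) := IsSimpleModule.congr e.symm
  rw [(LinearEquiv.congrLeft E R e).length_eq]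
  rw [show Module.length R ((R ⧸ maximalIdeal R) →ₗ[R] E) = Module.length R (ResidueField R) from
    (LinearEquiv.ofBijective g hg).symm.length_eq]
  exact Module.length_eq_one R (ResidueField R)

theorem length_dual (hf : IsInjectiveHull f) {M : Type u} [AddCommGroup M] [Module R M]
    (h : IsFiniteLength R M) : Module.length R (M →ₗ[R] E) = Module.length R M := by
  induction h with
  | @of_subsingleton M _ _ _ =>
    rw [Module.length_eq_zero, Module.length_eq_zero]
  | @of_simple_quotient M _ _ N _ hN ih =>
    rw [Module.length_eq_add_of_exact (LinearMap.lcomp R E N.mkQ) (LinearMap.lcomp R E N.subtype) ?_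
        ?_ ?_,
      Module.length_eq_add_of_exact N.subtype N.mkQ N.injective_subtype N.mkQ_surjective
        (LinearMap.exact_subtype_mkQ N), ih, length_dual_simple hf, Module.length_eq_one R (M ⧸ N), add_comm]
    · exact fun a b hab => Submodule.linearMap_qext _ hab
    · intro φ
      obtain ⟨ψ, hψ⟩ := hf.isInjective.out N.subtype N.injective_subtype φ
      exact ⟨ψ, LinearMap.ext hψ⟩
    · intro φ
      constructor
      · intro h0
        refine ⟨N.liftQ φ fun x hx => ?_, LinearMap.ext fun x => rfl⟩
        exact LinearMap.congr_fun h0 ⟨x, hx⟩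
      · rintro ⟨ψ, rfl⟩
        ext x
        simp [(Submodule.Quotient.mk_eq_zero N).2 x.2]

theorem surjective_of_length_le {M N : Type u} [AddCommGroup M] [Module R M] [AddCommGroup N]
    [Module R N] {g : M →ₗ[R] N} (hg : Function.Injective g)
    (hle : Module.length R N ≤ Module.length R M) (hfin : Module.length R N ≠ ⊤) :
    Function.Surjective g := by
  have h := Module.length_eq_add_of_exact g (LinearMap.range g).mkQ hg (Submodule.mkQ_surjective _)
    (LinearMap.exact_map_mkQ_range g)
  rw [← LinearMap.range_eq_top, ← Submodule.Quotient.subsingleton_iff,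
    ← Module.length_eq_zero_iff (R := R)]
  set a := Module.length R M
  set c := Module.length R (N ⧸ LinearMap.range g)
  rw [h] at hle hfin
  exact nonpos_iff_eq_zero.1 ((ENat.add_le_add_iff_left (k := a)
    (fun ha => hfin (by rw [ha, top_add]))).1 (by rwa [add_zero]))

theorem isFiniteLength_dual (hf : IsInjectiveHull f) {M : Type u} [AddCommGroup M] [Module R M]
    (h : IsFiniteLength R M) : IsFiniteLength R (M →ₗ[R] E) := by
  rwa [← Module.length_ne_top_iff, length_dual hf h, Module.length_ne_top_iff]

theorem applyₗ_bijective_of_isFiniteLength (hf : IsInjectiveHull f) {M : Type u} [AddCommGroup M]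
    [Module R M] (h : IsFiniteLength R M) :
    Function.Bijective (LinearMap.applyₗ : M →ₗ[R] (M →ₗ[R] E) →ₗ[R] E) := by
  have hd := isFiniteLength_dual hf h
  refine ⟨applyₗ_injective hf M, surjective_of_length_le (applyₗ_injective hf M) ?_ ?_⟩
  · rw [length_dual hf hd, length_dual hf h]
  · rw [length_dual hf hd, length_dual hf h]
    exact Module.length_ne_top_iff.2 h

/-- `Hom(R ⧸ a, E)` is the `a`-torsion of `E`. -/
noncomputable def dualQuotientEquiv (a : Ideal R) :
    ((R ⧸ a) →ₗ[R] E) ≃ₗ[R] LocCoh.torsionBy a E := by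
  refine LinearEquiv.ofBijective
    { toFun := fun φ => ⟨φ 1, (Submodule.mem_torsionBySet_iff _ _).2 fun r => by
        rw [← map_smul]
        have h : (r : R) • (1 : R ⧸ a) = 0 := by
          rw [Algebra.smul_def, Ideal.Quotient.algebraMap_eq, Ideal.Quotient.eq_zero_iff_mem.2 r.2,
            zero_mul]
        rw [h, map_zero]⟩
      map_add' := fun _ _ => rfl
      map_smul' := fun _ _ => rfl } ⟨fun φ ψ h => ?_, fun x => ?_⟩
  · refine Submodule.linearMap_qext _ ?_
    ext
    simpa using congrArg Subtype.val h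
  · refine ⟨Submodule.liftQ a (LinearMap.toSpanSingleton R E x) fun r hr => ?_, Subtype.ext ?_⟩
    · simpa using (Submodule.mem_torsionBySet_iff _ _).1 x.2 ⟨r, hr⟩
    · show (LinearMap.toSpanSingleton R E (x : E)) 1 = x
      simp

theorem annihilator_torsion (hf : IsInjectiveHull f) (a : Ideal R) :
    (LocCoh.torsionBy a E).annihilator = a := by
  have h := (dualQuotientEquiv (E := E) a).annihilator_eq
  rw [← annihilator_dual_eq hf, Ideal.annihilator_quotient] at h
  exact h.symm

theorem length_torsion (hf : IsInjectiveHull f) {a : Ideal R} (h : IsFiniteLength R (R ⧸ a)) :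
    Module.length R (LocCoh.torsionBy a E) = Module.length R (R ⧸ a) := by
  rw [← (dualQuotientEquiv (E := E) a).length_eq, length_dual hf h]

/-- Double annihilator for finite-length submodules of the hull. -/
theorem torsion_annihilator (hf : IsInjectiveHull f) {K : Submodule R E}
    (hK : IsFiniteLength R K) : LocCoh.torsionBy K.annihilator E = K := by
  have hle : K ≤ LocCoh.torsionBy K.annihilator E := fun x hx =>
    (Submodule.mem_torsionBySet_iff _ _).2 fun r => Submodule.mem_annihilator.1 r.2 x hx
  let g : (R ⧸ K.annihilator) →ₗ[R] (K →ₗ[R] E) :=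
    Submodule.liftQ _ (LinearMap.toSpanSingleton R (K →ₗ[R] E) K.subtype) fun r hr =>
      LinearMap.ext fun x => by simpa using Submodule.mem_annihilator.1 hr x.1 x.2
  have hg : Function.Injective g := by
    rw [← LinearMap.ker_eq_bot]
    refine Submodule.ker_liftQ_eq_bot _ _ _ fun r hr => Submodule.mem_annihilator.2 fun x hx => ?_
    simpa using LinearMap.congr_fun (LinearMap.mem_ker.1 hr) ⟨x, hx⟩
  have hfl : IsFiniteLength R (R ⧸ K.annihilator) := (isFiniteLength_dual hf hK).of_injective hg
  have hlen : Module.length R (LocCoh.torsionBy K.annihilator E) ≤ Module.length R K := by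
    rw [length_torsion hf hfl, ← length_dual hf hK]
    exact Module.length_le_of_injective g hg
  have hsur := surjective_of_length_le (Submodule.inclusion_injective hle) hlen
    (ne_top_of_le_ne_top (Module.length_ne_top_iff.2 hK) hlen)
  refine le_antisymm (fun x hx => ?_) hle
  obtain ⟨y, hy⟩ := hsur ⟨x, hx⟩
  have h1 : (y : E) = x := congrArg Subtype.val hy
  exact h1 ▸ y.2

section Socle

variable (R) in
theorem isFiniteLength_of_killed (M : Type u) [AddCommGroup M] [Module R M] [Module.Finite R M]
    [IsArtinianRing R] : IsFiniteLength R M :=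
  isFiniteLength_iff_isNoetherian_isArtinian.2 ⟨inferInstance, inferInstance⟩

/-- A power torsion module with socle of dimension `n` embeds in `E ^ n`. -/
theorem exists_embedding_pi (hf : IsInjectiveHull f) (M : Type u) [AddCommGroup M] [Module R M]
    (hM : LocCoh.IsPowerTorsion (maximalIdeal R) M) (n : ℕ)
    [Module.Finite (R ⧸ maximalIdeal R) ↥(LocCoh.torsionBy (maximalIdeal R) M)]
    (hn : Module.finrank (R ⧸ maximalIdeal R) ↥(LocCoh.torsionBy (maximalIdeal R) M) = n) :
    ∃ g : M →ₗ[R] (Fin n → E), Function.Injective g := by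
  letI : Field (R ⧸ maximalIdeal R) := Ideal.Quotient.field (maximalIdeal R)
  let S := LocCoh.torsionBy (maximalIdeal R) M
  let b : Module.Basis (Fin n) (R ⧸ maximalIdeal R) S := Module.finBasisOfFinrankEq _ _ hn
  let i : S →ₗ[R] (Fin n → E) :=
    LinearMap.pi fun j => f ∘ₗ LinearMap.proj j ∘ₗ (b.equivFun.toLinearMap.restrictScalars R)
  have hi : Function.Injective i := fun x y hxy => b.equivFun.injective
    (funext fun j => hf.injective (congrFun hxy j))
  haveI := hf.isInjective
  obtain ⟨g, hg⟩ := (inferInstance : Module.Injective R (Fin n → E)).out S.subtype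
    S.injective_subtype i
  refine ⟨g, ?_⟩
  rw [← LinearMap.ker_eq_bot, Submodule.eq_bot_iff]
  intro x hx
  by_contra hx0
  obtain ⟨k, hk⟩ := hM x
  obtain ⟨r, hr0, hr⟩ := exists_smul_torsion k hx0 hk
  have hmem : r • x ∈ S := (Submodule.mem_torsionBySet_iff _ _).2 fun a => hr a a.2
  have h0 : i ⟨r • x, hmem⟩ = 0 := by
    rw [← hg ⟨r • x, hmem⟩]
    simp [LinearMap.mem_ker.1 hx]
  exact hr0 (congrArg Subtype.val (hi (h0.trans (map_zero i).symm)))

end Socle

section Noetherian

variable [IsNoetherianRing R]

theorem hull_isPowerTorsion (hf : IsInjectiveHull f) :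
    LocCoh.IsPowerTorsion (maximalIdeal R) E := by
  let G : Submodule R E :=
    { carrier := {x | ∃ n : ℕ, ∀ r ∈ maximalIdeal R ^ n, r • x = 0}
      zero_mem' := ⟨0, fun r _ => smul_zero r⟩
      add_mem' := by
        rintro x y ⟨k, hk⟩ ⟨l, hl⟩
        refine ⟨k + l, fun r hr => ?_⟩
        rw [smul_add, hk r (Ideal.pow_le_pow_right (Nat.le_add_right k l) hr),
          hl r (Ideal.pow_le_pow_right (Nat.le_add_left l k) hr), add_zero]
      smul_mem' := by
        rintro c x ⟨k, hk⟩
        exact ⟨k, fun r hr => by rw [smul_comm, hk r hr, smul_zero]⟩ }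
  have hG := powerTorsion_injective hf.isInjective (maximalIdeal R) G fun x => Iff.rfl
  have := eq_top_of_injective_of_range_le hf.toIsEssentialInj hG (by
    rintro x ⟨y, rfl⟩
    exact ⟨1, fun r hr => by
      rw [← map_smul, smul_residueField_eq_zero (by simpa using hr), map_zero]⟩)
  exact fun x => (this ▸ Submodule.mem_top : x ∈ G)

theorem isFiniteLength_quotient_pow (n : ℕ) : IsFiniteLength R (R ⧸ maximalIdeal R ^ n) := by
  induction n with
  | zero =>
    have : Subsingleton (R ⧸ maximalIdeal R ^ 0) :=
      Submodule.Quotient.subsingleton_iff.2 (by simp)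
    exact .of_subsingleton
  | succ n ih =>
    rw [← Module.length_ne_top_iff] at ih ⊢
    let q : (R ⧸ maximalIdeal R ^ (n + 1)) →ₗ[R] R ⧸ maximalIdeal R ^ n :=
      Submodule.factor (Ideal.pow_le_pow_right n.le_succ)
    rw [Module.length_eq_add_of_exact (LinearMap.ker q).subtype q (Submodule.injective_subtype _)
      (Submodule.factor_surjective _) (LinearMap.exact_subtype_ker_map q)]
    refine WithTop.add_ne_top.2 ⟨?_, ih⟩
    -- the kernel is a finitely generated module killed by the maximal ideal
    have hkill : Module.IsTorsionBySet R (LinearMap.ker q) (maximalIdeal R) := by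
      rintro ⟨x, hx⟩ ⟨r, hr⟩
      obtain ⟨y, rfl⟩ := Submodule.mkQ_surjective _ x
      refine Subtype.ext ((Submodule.Quotient.mk_eq_zero _).2 ?_)
      show r * y ∈ _
      rw [pow_succ']
      exact Ideal.mul_mem_mul hr ((Submodule.Quotient.mk_eq_zero _).1 hx)
    letI := hkill.module
    letI : Field (R ⧸ maximalIdeal R) := Ideal.Quotient.field (maximalIdeal R)
    haveI : IsScalarTower R (R ⧸ maximalIdeal R) (LinearMap.ker q) := hkill.isScalarTower
    haveI : Module.Finite (R ⧸ maximalIdeal R) (LinearMap.ker q) :=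
      Module.Finite.of_restrictScalars_finite R _ _
    rw [Module.length_eq_of_surjective (R := R ⧸ maximalIdeal R) (S := R)
      Ideal.Quotient.mk_surjective]
    exact Module.length_ne_top

/-- The pieces `E[m ^ n]` have finite length. -/
theorem isFiniteLength_torsion_pow (hf : IsInjectiveHull f) (n : ℕ) :
    IsFiniteLength R (LocCoh.torsionBy (maximalIdeal R ^ n) E) :=
  (dualQuotientEquiv _).isFiniteLength (isFiniteLength_dual hf (isFiniteLength_quotient_pow n))

theorem mem_torsion_pow (hf : IsInjectiveHull f) (x : E) :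
    ∃ n, x ∈ LocCoh.torsionBy (maximalIdeal R ^ n) E := by
  obtain ⟨n, hn⟩ := hull_isPowerTorsion hf x
  exact ⟨n, (Submodule.mem_torsionBySet_iff _ _).2 fun r => hn r r.2⟩

/-- The hull is Artinian: submodules are encoded by ideals of the Rees algebra. -/
theorem hull_isArtinian (hf : IsInjectiveHull f) : IsArtinian R E := by
  set m := maximalIdeal R
  let T : ℕ → Submodule R E := fun n => LocCoh.torsionBy (m ^ n) E
  let a : Submodule R E → ℕ → Ideal R := fun N n => (N ⊓ T n).annihilator
  have hfl : ∀ N n, IsFiniteLength R ↥(N ⊓ T n) := fun N n =>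
    (isFiniteLength_torsion_pow hf n).of_injective
      (Submodule.inclusion_injective (inf_le_right : N ⊓ T n ≤ T n))
  have hT : ∀ n, T n ≤ T (n + 1) := fun n =>
    Submodule.torsionBySet_le_torsionBySet_of_subset (Ideal.pow_le_pow_right n.le_succ)
  have hstep : ∀ N n, a N n = a N (n + 1) ⊔ m ^ n := by
    intro N n
    have htor : LocCoh.torsionBy (a N (n + 1) ⊔ m ^ n) E = N ⊓ T n := by
      have h1 := torsion_annihilator hf (hfl N (n + 1))
      ext x
      rw [Submodule.mem_torsionBySet_iff]
      constructor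
      · intro h
        have h2 : x ∈ LocCoh.torsionBy (a N (n + 1)) E :=
          (Submodule.mem_torsionBySet_iff _ _).2 fun r => h ⟨r, Submodule.mem_sup_left r.2⟩
        rw [show LocCoh.torsionBy (a N (n + 1)) E = N ⊓ T (n + 1) from h1] at h2
        exact ⟨h2.1, (Submodule.mem_torsionBySet_iff _ _).2 fun r =>
          h ⟨r, Submodule.mem_sup_right r.2⟩⟩
      · rintro ⟨hx1, hx2⟩ ⟨r, hr⟩
        obtain ⟨s, hs, t, ht, rfl⟩ := Submodule.mem_sup.1 hr
        show (s + t) • x = 0
        rw [add_smul, Submodule.mem_annihilator.1 hs x ⟨hx1, hT n hx2⟩,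
          (Submodule.mem_torsionBySet_iff _ _).1 hx2 ⟨t, ht⟩, add_zero]
    show (N ⊓ T n).annihilator = _
    rw [← htor, annihilator_torsion hf]
  have hchain : ∀ N n k, a N n ≤ a N (n + k) ⊔ m ^ n := by
    intro N n k
    induction k with
    | zero => exact le_sup_left
    | succ k ih =>
      refine ih.trans ?_
      rw [hstep N (n + k), ← add_assoc, sup_assoc]
      exact sup_le_sup_left (sup_le (Ideal.pow_le_pow_right (by omega)) le_rfl) _
  let Φ : Submodule R E → Submodule (reesAlgebra m) (reesAlgebra m) := fun N =>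
    { carrier := {p | ∀ i, (p : Polynomial R).coeff i ∈ a N (i + 1)}
      zero_mem' := fun i => by simp
      add_mem' := fun hp hq i => by
        show ((_ : Polynomial R) + _).coeff i ∈ _
        rw [Polynomial.coeff_add]
        exact Ideal.add_mem _ (hp i) (hq i)
      smul_mem' := fun c p hp k => by
        show ((c : Polynomial R) * p).coeff k ∈ _
        rw [Polynomial.coeff_mul]
        refine Ideal.sum_mem _ fun ⟨i, j⟩ hij => ?_
        rw [← Finset.mem_antidiagonal.mp hij]
        obtain ⟨y, hy, z, hz, hyz⟩ := Submodule.mem_sup.1 (hchain N (j + 1) i (hp j))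
        rw [← hyz, mul_add]
        refine Ideal.add_mem _ ?_ ?_
        · exact Ideal.mul_mem_left _ _ (by rwa [show i + j + 1 = j + 1 + i by omega])
        · have h1 : (c : Polynomial R).coeff i * z ∈ m ^ (i + j + 1) := by
            rw [add_assoc, pow_add]
            exact Ideal.mul_mem_mul (c.2 i) hz
          exact Submodule.mem_annihilator.2 fun x hx =>
            (Submodule.mem_torsionBySet_iff _ _).1 (Submodule.mem_inf.1 hx).2 ⟨_, h1⟩ }
  have hmono : StrictMono (fun N => OrderDual.toDual (Φ N)) := by
    intro N N' hlt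
    have hamono : ∀ n, a N' n ≤ a N n := fun n =>
      Submodule.annihilator_mono (inf_le_inf_right _ hlt.le)
    refine OrderDual.toDual_lt_toDual.2 (lt_of_le_of_ne (fun p hp i => hamono _ (hp i)) ?_)
    intro heq
    -- equality of the encoded ideals forces equality of all the `a`'s
    have ha : ∀ n, a N n ≤ a N' n := by
      intro n
      induction n with
      | zero =>
        intro r _
        refine Submodule.mem_annihilator.2 fun x hx => ?_
        have : (1 : R) • x = 0 := (Submodule.mem_torsionBySet_iff _ _).1 hx.2 ⟨1, by simp⟩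
        rw [one_smul] at this
        rw [this, smul_zero]
      | succ n ih =>
        intro x hx
        have hx' : x ∈ a N n := by rw [hstep N n]; exact Submodule.mem_sup_left hx
        have hx'' := ih hx'
        rw [hstep N' n] at hx''
        obtain ⟨y, hy, z, hz, rfl⟩ := Submodule.mem_sup.1 hx''
        have hz' : z ∈ a N (n + 1) := by
          simpa using Ideal.sub_mem _ hx (hamono _ hy)
        have hp : (⟨Polynomial.monomial n z, reesAlgebra.monomial_mem.2 hz⟩ : reesAlgebra m) ∈ Φ N := by
          intro i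
          show (Polynomial.monomial n z).coeff i ∈ _
          rw [Polynomial.coeff_monomial]
          split_ifs with h
          · exact h ▸ hz'
          · exact zero_mem _
        rw [← heq] at hp
        have := hp n
        simp only [Polynomial.coeff_monomial, if_true] at this
        exact Ideal.add_mem _ hy this
    refine hlt.ne (le_antisymm hlt.le fun x hx => ?_)
    obtain ⟨n, hn⟩ := mem_torsion_pow hf x
    have hx' : x ∈ N' ⊓ T n := ⟨hx, hn⟩
    have heq' : a N n = a N' n := le_antisymm (ha n) (hamono n)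
    have e1 := torsion_annihilator hf (hfl N n)
    have e2 := torsion_annihilator hf (hfl N' n)
    rw [← e2] at hx'
    change x ∈ LocCoh.torsionBy (a N' n) E at hx'
    rw [← heq', show LocCoh.torsionBy (a N n) E = N ⊓ T n from e1] at hx'
    exact hx'.1
  haveI := hmono.wellFoundedLT
  exact ⟨IsWellFounded.wf⟩

theorem isPowerTorsion_of_isArtinian (M : Type u) [AddCommGroup M] [Module R M] [IsArtinian R M] :
    LocCoh.IsPowerTorsion (maximalIdeal R) M := by
  intro x
  obtain ⟨n, hn⟩ := IsArtinian.monotone_stabilizes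
    ⟨fun n => OrderDual.toDual ((maximalIdeal R ^ n) • (R ∙ x)), fun a b hab =>
      Submodule.smul_mono_left (Ideal.pow_le_pow_right hab)⟩
  refine ⟨n, fun r hr => ?_⟩
  have h : maximalIdeal R ^ n • (R ∙ x) = maximalIdeal R • (maximalIdeal R ^ n • (R ∙ x)) := by
    rw [← Submodule.mul_smul, ← pow_succ']
    exact hn (n + 1) n.le_succ
  have h0 := Submodule.eq_bot_of_le_smul_of_le_jacobson_bot (maximalIdeal R)
    (maximalIdeal R ^ n • (R ∙ x))
    (Submodule.FG.smul (IsNoetherian.noetherian (maximalIdeal R ^ n))
      (Submodule.fg_span_singleton x)) h.le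
    (by rw [jacobson_eq_maximalIdeal ⊥ bot_ne_top])
  exact (Submodule.eq_bot_iff _).1 h0 _
    (Submodule.smul_mem_smul hr (Submodule.mem_span_singleton_self x))

theorem socle_finite_of_isArtinian (M : Type u) [AddCommGroup M] [Module R M] [IsArtinian R M] :
    Module.Finite (R ⧸ maximalIdeal R) ↥(LocCoh.torsionBy (maximalIdeal R) M) := by
  letI : Field (R ⧸ maximalIdeal R) := Ideal.Quotient.field (maximalIdeal R)
  haveI : IsArtinian (R ⧸ maximalIdeal R) ↥(LocCoh.torsionBy (maximalIdeal R) M) :=
    isArtinian_of_tower R inferInstance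
  exact ((IsSemisimpleModule.finite_tfae (R := R ⧸ maximalIdeal R)
    (M := ↥(LocCoh.torsionBy (maximalIdeal R) M))).out 2 0).1
    ‹IsArtinian (R ⧸ maximalIdeal R) ↥(LocCoh.torsionBy (maximalIdeal R) M)›

theorem isArtinian_of_socle (hf : IsInjectiveHull f) (M : Type u) [AddCommGroup M] [Module R M]
    (hM : LocCoh.IsPowerTorsion (maximalIdeal R) M)
    [Module.Finite (R ⧸ maximalIdeal R) ↥(LocCoh.torsionBy (maximalIdeal R) M)] :
    IsArtinian R M := by
  obtain ⟨g, hg⟩ := exists_embedding_pi hf M hM _ rfl
  haveI := hull_isArtinian hf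
  exact isArtinian_of_injective g hg

theorem dual_finite_isArtinian (hf : IsInjectiveHull f) (M : Type u) [AddCommGroup M] [Module R M]
    [Module.Finite R M] : IsArtinian R (M →ₗ[R] E) := by
  obtain ⟨n, π, hπ⟩ := Module.Finite.exists_fin' R M
  haveI := hull_isArtinian hf
  let g : (M →ₗ[R] E) →ₗ[R] (Fin n → E) :=
    LinearMap.pi fun j => LinearMap.applyₗ (π (Pi.single j 1))
  refine isArtinian_of_injective g fun φ ψ h => ?_
  have : φ ∘ₗ π = ψ ∘ₗ π := by
    refine (Pi.basisFun R (Fin n)).ext fun j => ?_
    simpa [g] using congrFun h j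
  exact LinearMap.ext fun x => by obtain ⟨y, rfl⟩ := hπ x; exact LinearMap.congr_fun this y

/-- On `E[m ^ n]` every linear map to `E` is a homothety. -/
theorem exists_smul_on_torsion (hf : IsInjectiveHull f) (n : ℕ)
    (φ : LocCoh.torsionBy (maximalIdeal R ^ n) E →ₗ[R] E) :
    ∃ r : R, ∀ x, φ x = r • (x : E) := by
  let T := LocCoh.torsionBy (maximalIdeal R ^ n) E
  let g : (R ⧸ maximalIdeal R ^ n) →ₗ[R] (T →ₗ[R] E) :=
    Submodule.liftQ _ (LinearMap.toSpanSingleton R (T →ₗ[R] E) T.subtype) fun r hr =>
      LinearMap.ext fun x => by simpa using (Submodule.mem_torsionBySet_iff _ _).1 x.2 ⟨r, hr⟩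
  have hg : Function.Injective g := by
    rw [← LinearMap.ker_eq_bot]
    refine Submodule.ker_liftQ_eq_bot _ _ _ fun r hr => ?_
    rw [← annihilator_torsion hf (maximalIdeal R ^ n)]
    exact Submodule.mem_annihilator.2 fun x hx => by
      simpa using LinearMap.congr_fun (LinearMap.mem_ker.1 hr) ⟨x, hx⟩
  have hT := isFiniteLength_torsion_pow hf n
  have hlen : Module.length R (T →ₗ[R] E) = Module.length R (R ⧸ maximalIdeal R ^ n) := by
    rw [length_dual hf hT, length_torsion hf (isFiniteLength_quotient_pow n)]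
  obtain ⟨q, hq⟩ := surjective_of_length_le hg hlen.le
    (by rw [hlen]; exact Module.length_ne_top_iff.2 (isFiniteLength_quotient_pow n)) φ
  obtain ⟨r, rfl⟩ := Submodule.Quotient.mk_surjective _ q
  exact ⟨r, fun x => (LinearMap.congr_fun hq x).symm⟩

/-- The endomorphism ring of the hull is the completion. -/
theorem end_equiv_completion (hf : IsInjectiveHull f) :
    Nonempty (Module.End R E ≃ₐ[R] AdicCompletion (maximalIdeal R) R) := by
  set m := maximalIdeal R
  let C := AdicCompletion m R
  have key : ∀ (c : C) (x : E) (n k : ℕ) (r s : R), x ∈ LocCoh.torsionBy (m ^ n) E →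
      x ∈ LocCoh.torsionBy (m ^ k) E → AdicCompletion.evalₐ m n c = Ideal.Quotient.mk _ r →
      AdicCompletion.evalₐ m k c = Ideal.Quotient.mk _ s → r • x = s • x := by
    intro c
    induction c using AdicCompletion.induction_on with
    | _ F =>
      intro x n k r s hn hk hr hs
      rw [AdicCompletion.evalₐ_mk, Ideal.Quotient.eq] at hr hs
      have h2 : ∀ {i : ℕ} {t : R}, x ∈ LocCoh.torsionBy (m ^ i) E → F.1 i - t ∈ m ^ i →
          F.1 i • x = t • x := fun {i t} hi ht => by
        rw [← sub_eq_zero, ← sub_smul]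
        exact (Submodule.mem_torsionBySet_iff _ _).1 hi ⟨_, ht⟩
      rw [← h2 hn hr, ← h2 hk hs]
      suffices H : ∀ {i j : ℕ}, i ≤ j → x ∈ LocCoh.torsionBy (m ^ i) E → F.1 i • x = F.1 j • x by
        rcases le_total n k with h | h
        · exact H h hn
        · exact (H h hk).symm
      intro i j hij hi
      have := F.2 hij
      rw [SModEq.sub_mem, smul_eq_mul, Ideal.mul_top] at this
      exact h2 hi this
  choose d hd using mem_torsion_pow hf
  have hlift : ∀ (c : C) (n : ℕ), ∃ r : R, AdicCompletion.evalₐ m n c = Ideal.Quotient.mk _ r :=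
    fun c n => ⟨_, (Ideal.Quotient.mk_surjective _).choose_spec.symm⟩
  choose ρ hρ using hlift
  let act : C → E → E := fun c x => ρ c (d x) • x
  have hact : ∀ (c : C) (x : E) (n : ℕ) (r : R), x ∈ LocCoh.torsionBy (m ^ n) E →
      AdicCompletion.evalₐ m n c = Ideal.Quotient.mk _ r → act c x = r • x :=
    fun c x n r hn hr => key c x _ _ _ _ (hd x) hn (hρ c _) hr
  have hmono : ∀ {i j : ℕ}, i ≤ j → LocCoh.torsionBy (m ^ i) E ≤ LocCoh.torsionBy (m ^ j) E :=
    fun h => Submodule.torsionBySet_le_torsionBySet_of_subset (Ideal.pow_le_pow_right h)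
  let toEnd : C → Module.End R E := fun c =>
    { toFun := act c
      map_add' := fun x y => by
        have hx := hmono (le_max_left (d x) (d y)) (hd x)
        have hy := hmono (le_max_right (d x) (d y)) (hd y)
        rw [hact c x _ _ hx (hρ c _), hact c y _ _ hy (hρ c _),
          hact c (x + y) _ _ (add_mem hx hy) (hρ c _), smul_add]
      map_smul' := fun t x => by
        rw [hact c (t • x) _ _ (Submodule.smul_mem _ t (hd x)) (hρ c _), smul_comm,
          RingHom.id_apply] }
  let χ : C →ₐ[R] Module.End R E :=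
    { toFun := toEnd
      map_one' := LinearMap.ext fun x => by
        show act 1 x = x
        rw [hact 1 x _ 1 (hd x) (by rw [map_one, map_one]), one_smul]
      map_mul' := fun a b => LinearMap.ext fun x => by
        show act (a * b) x = act a (act b x)
        rw [hact (a * b) x _ (ρ a (d x) * ρ b (d x)) (hd x) (by rw [map_mul, hρ, hρ, map_mul]),
          hact b x _ _ (hd x) (hρ b _), hact a (ρ b (d x) • x) _ _
            (Submodule.smul_mem _ _ (hd x)) (hρ a _), mul_smul]
      map_zero' := LinearMap.ext fun x => by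
        show act 0 x = 0
        rw [hact 0 x _ 0 (hd x) (by rw [map_zero, map_zero]), zero_smul]
      map_add' := fun a b => LinearMap.ext fun x => by
        show act (a + b) x = act a x + act b x
        rw [hact (a + b) x _ (ρ a (d x) + ρ b (d x)) (hd x) (by rw [map_add, hρ, hρ, map_add]),
          hact b x _ _ (hd x) (hρ b _), hact a x _ _ (hd x) (hρ a _), add_smul]
      commutes' := fun r => LinearMap.ext fun x => by
        show act (algebraMap R C r) x = r • x
        rw [hact _ x _ r (hd x) (by rw [AlgHom.commutes, Ideal.Quotient.algebraMap_eq])] }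
  refine ⟨(AlgEquiv.ofBijective χ ⟨?_, ?_⟩).symm⟩
  · rw [injective_iff_map_eq_zero]
    intro c hc
    refine AdicCompletion.ext_evalₐ fun n => ?_
    rw [hρ, map_zero, Ideal.Quotient.eq_zero_iff_mem, ← annihilator_torsion hf (m ^ n)]
    refine Submodule.mem_annihilator.2 fun x hx => ?_
    rw [← hact c x n _ hx (hρ c n)]
    exact LinearMap.congr_fun hc x
  · intro φ
    choose r hr using fun n => exists_smul_on_torsion hf n
      (φ ∘ₗ (LocCoh.torsionBy (m ^ n) E).subtype)
    have hcauchy : ∀ n, r n ≡ r (n + 1) [SMOD (m ^ n • ⊤ : Submodule R R)] := by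
      intro n
      rw [SModEq.sub_mem, smul_eq_mul, Ideal.mul_top, ← annihilator_torsion hf (m ^ n)]
      refine Submodule.mem_annihilator.2 fun x hx => ?_
      rw [sub_smul, ← hr n ⟨x, hx⟩, ← hr (n + 1) ⟨x, hmono n.le_succ hx⟩]
      simp
    refine ⟨AdicCompletion.mk m R (AdicCompletion.AdicCauchySequence.mk m R r hcauchy), ?_⟩
    refine LinearMap.ext fun x => ?_
    show act _ x = φ x
    rw [hact _ x (d x) (r (d x)) (hd x) (AdicCompletion.evalₐ_mk m (d x) _)]
    exact (hr (d x) ⟨x, hd x⟩).symm

/-- Over a complete ring, every endomorphism of the hull is a homothety. -/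
theorem exists_eq_smul_id [IsAdicComplete (maximalIdeal R) R] (hf : IsInjectiveHull f)
    (φ : Module.End R E) : ∃ r : R, ∀ x, φ x = r • x := by
  obtain ⟨e⟩ := end_equiv_completion hf
  obtain ⟨r, hr⟩ := AdicCompletion.of_surjective (maximalIdeal R) R (e φ)
  refine ⟨r, fun x => ?_⟩
  have : e φ = algebraMap R _ r := by rw [← hr]; rfl
  rw [← AlgEquiv.commutes e r] at this
  rw [e.injective this]
  rfl

theorem duality_finite_surjective [IsAdicComplete (maximalIdeal R) R] (hf : IsInjectiveHull f)
    (M : Type u) [AddCommGroup M] [Module R M] [Module.Finite R M] :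
    Function.Surjective (LinearMap.applyₗ : M →ₗ[R] (M →ₗ[R] E) →ₗ[R] E) := by
  intro ξ
  obtain ⟨n, π, hπ⟩ := Module.Finite.exists_fin' R M
  let ι := LinearMap.lcomp R E π
  have hι : Function.Injective ι := fun a b h =>
    LinearMap.ext fun x => by obtain ⟨y, rfl⟩ := hπ x; exact LinearMap.congr_fun h y
  obtain ⟨ξ', hξ'⟩ := (baer hf.isInjective).extension_property ι hι ξ
  choose r hr using fun j : Fin n => exists_eq_smul_id hf
    (ξ' ∘ₗ LinearMap.lcomp R E (LinearMap.proj j) ∘ₗ
      (LinearMap.ringLmapEquivSelf R R E).symm.toLinearMap)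
  have key : ∀ φ : (Fin n → R) →ₗ[R] E, ξ' φ = φ r := by
    intro φ
    have hφ : φ = ∑ j, (LinearMap.lcomp R E (LinearMap.proj j))
        ((LinearMap.ringLmapEquivSelf R R E).symm (φ (Pi.single j 1))) := by
      refine (Pi.basisFun R (Fin n)).ext fun k => ?_
      simp [Pi.single_apply, LinearMap.sum_apply, ite_smul]
    conv_lhs => rw [hφ]
    rw [map_sum]
    have := fun j => hr j (φ (Pi.single j 1))
    simp only [LinearMap.comp_apply, LinearEquiv.coe_coe] at this
    simp only [this]
    rw [show φ r = φ (∑ j, r j • Pi.single j 1) by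
      congr 1; ext k; simp [Pi.single_apply, Finset.sum_apply], map_sum]
    simp
  refine ⟨π r, LinearMap.ext fun φ => ?_⟩
  rw [← hξ']
  exact (key (ι φ)).symm

theorem duality_artinian [IsAdicComplete (maximalIdeal R) R] (hf : IsInjectiveHull f)
    (M : Type u) [AddCommGroup M] [Module R M] [IsArtinian R M] :
    Module.Finite R (M →ₗ[R] E) ∧
      Function.Bijective (LinearMap.applyₗ : M →ₗ[R] (M →ₗ[R] E) →ₗ[R] E) := by
  haveI := socle_finite_of_isArtinian (R := R) M
  obtain ⟨i, hi⟩ := exists_embedding_pi hf M (isPowerTorsion_of_isArtinian M) _ rfl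
  generalize Module.finrank (R ⧸ maximalIdeal R) ↥(LocCoh.torsionBy (maximalIdeal R) M) = n at i hi
  have hgen : ∀ φ : M →ₗ[R] E, ∃ r : Fin n → R, φ = ∑ j, r j • (LinearMap.proj j ∘ₗ i) := by
    intro φ
    obtain ⟨Φ, hΦ⟩ := (baer hf.isInjective).extension_property i hi φ
    choose r hr using fun j => exists_eq_smul_id hf (Φ ∘ₗ LinearMap.single R (fun _ : Fin n => E) j)
    refine ⟨r, LinearMap.ext fun x => ?_⟩
    rw [← hΦ, LinearMap.comp_apply]
    conv_lhs => rw [show i x = ∑ j, Pi.single j (i x j) from (Finset.univ_sum_single _).symm, map_sum]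
    simp only [LinearMap.sum_apply, LinearMap.smul_apply, LinearMap.comp_apply, LinearMap.proj_apply]
    exact Finset.sum_congr rfl fun j _ => hr j (i x j)
  refine ⟨?_, applyₗ_injective hf M, fun ξ => ?_⟩
  · refine Module.Finite.of_surjective (Fintype.linearCombination R
      fun j : Fin n => LinearMap.proj j ∘ₗ i) fun φ => ?_
    obtain ⟨r, hr⟩ := hgen φ
    exact ⟨r, by simp [Fintype.linearCombination_apply, hr]⟩
  · let y : Fin n → E := fun j => ξ (LinearMap.proj j ∘ₗ i)
    have hy : y ∈ LinearMap.range i := by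
      by_contra hy
      obtain ⟨θ, hθ⟩ := exists_dual_ne_zero hf
        (x := Submodule.Quotient.mk (p := LinearMap.range i) y)
        (fun h => hy ((Submodule.Quotient.mk_eq_zero _).1 h))
      choose r hr using fun j => exists_eq_smul_id hf
        (θ ∘ₗ (LinearMap.range i).mkQ ∘ₗ LinearMap.single R (fun _ : Fin n => E) j)
      have hsum : ∀ z : Fin n → E, θ (Submodule.Quotient.mk z) = ∑ j, r j • z j := fun z => by
        conv_lhs => rw [show z = ∑ j, Pi.single j (z j) from (Finset.univ_sum_single _).symm]
        rw [← Submodule.mkQ_apply, map_sum, map_sum]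
        exact Finset.sum_congr rfl fun j _ => hr j (z j)
      refine hθ ?_
      have h0 : ∑ j, r j • (LinearMap.proj j ∘ₗ i) = 0 := LinearMap.ext fun x => by
        simp only [LinearMap.sum_apply, LinearMap.smul_apply, LinearMap.comp_apply,
          LinearMap.proj_apply, LinearMap.zero_apply, ← hsum]
        rw [(Submodule.Quotient.mk_eq_zero _).2 (LinearMap.mem_range_self i x), map_zero]
      rw [hsum]
      simpa [y, map_sum] using congrArg ξ h0
    obtain ⟨x, hx⟩ := hy
    refine ⟨x, LinearMap.ext fun φ => ?_⟩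
    obtain ⟨r, rfl⟩ := hgen φ
    simp [y, hx, map_sum, LinearMap.sum_apply]

end Noetherian

end GrothMatlis
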