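import Groth.Agent.Matlis.Prime
import Groth.Agent.Matlis.Duality
import Mathlib.RingTheory.LocalProperties.Injective
import Mathlib.RingTheory.Localization.Algebra

/-!
# Localizing essential extensions and injective hulls

Helper library (no milestone statements here).
-/

universe u

namespace GrothMatlis

open InjHull

variable {R : Type u} [CommRing R] [IsNoetherianRing R] (S : Submonoid R)
variable {M E : Type u} [AddCommGroup M] [Module R M] [AddCommGroup E] [Module R E]

theorem localized_inf_ne_bot (N : Submodule R M)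
    (hN : ∀ N' : Submodule R M, N' ≠ ⊥ → N' ⊓ N ≠ ⊥)
    (L : Submodule (Localization S) (LocalizedModule S M)) (hL : L ≠ ⊥) :
    L ⊓ Submodule.localized S N ≠ ⊥ := by
  obtain ⟨z, hz, hz0⟩ := Submodule.exists_mem_ne_zero_of_ne_bot hL
  induction z using LocalizedModule.induction_on with
  | h x s₀ =>
  have hx1 : LocalizedModule.mk x (1 : S) ∈ L := by
    have := L.smul_mem (Localization.mk (s₀ : R) 1) hz
    rwa [LocalizedModule.mk_smul_mk, one_mul, ← Submonoid.smul_def,
      LocalizedModule.mk_cancel] at this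
  obtain ⟨_, ⟨s, rfl⟩, hmax⟩ := set_has_maximal_iff_noetherian.2
    (inferInstance : IsNoetherian R R)
    (Set.range fun s : S => (R ∙ ((s : R) • x)).annihilator) ⟨_, 1, rfl⟩
  set y := (s : R) • x with hy
  have hy1 : LocalizedModule.mk y (1 : S) ∈ L := by
    have h := L.smul_mem (Localization.mk (s : R) 1) hx1
    rwa [LocalizedModule.mk_smul_mk, one_mul] at h
  have hy0 : LocalizedModule.mk y (1 : S) ≠ 0 := by
    intro h
    rw [← LocalizedModule.mkLinearMap_apply, IsLocalizedModule.eq_zero_iff S] at h
    obtain ⟨t, ht⟩ := h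
    refine hz0 ?_
    rw [← LocalizedModule.zero_mk s₀, LocalizedModule.mk_eq]
    refine ⟨t * s, ?_⟩
    simp only [Submonoid.smul_def, smul_zero, Submonoid.coe_mul, mul_smul]
    rw [smul_comm (s : R) (s₀ : R), smul_comm (t : R) (s₀ : R), ← hy,
      ← Submonoid.smul_def t, ht, smul_zero]
  intro h0
  refine hN (R ∙ y) (by
    intro h
    rw [Submodule.span_singleton_eq_bot] at h
    exact hy0 (by rw [h, LocalizedModule.zero_mk])) ((Submodule.eq_bot_iff _).2 ?_)
  rintro _ ⟨hay, haN⟩
  obtain ⟨a, rfl⟩ := Submodule.mem_span_singleton.1 hay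
  have h1 : LocalizedModule.mk (a • y) (1 : S) = 0 := by
    refine (Submodule.eq_bot_iff _).1 h0 _ ⟨?_, ⟨a • y, haN, 1, by rw [IsLocalizedModule.mk'_one, LocalizedModule.mkLinearMap_apply]⟩⟩
    have h := L.smul_mem (Localization.mk a 1) hy1
    rwa [LocalizedModule.mk_smul_mk, one_mul] at h
  rw [← LocalizedModule.mkLinearMap_apply, IsLocalizedModule.eq_zero_iff S] at h1
  obtain ⟨t, ht⟩ := h1
  -- maximality of the annihilator of `y`
  have hle : (R ∙ y).annihilator ≤ (R ∙ (((t * s : S) : R) • x)).annihilator := by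
    intro r hr
    rw [Submodule.mem_annihilator_span_singleton] at hr ⊢
    rw [Submonoid.coe_mul, mul_smul, ← hy, smul_comm, hr, smul_zero]
  have heq := (hle.eq_or_lt).resolve_right (hmax _ ⟨t * s, rfl⟩)
  rw [← Submodule.mem_annihilator_span_singleton, heq, Submodule.mem_annihilator_span_singleton,
    Submonoid.coe_mul, mul_smul, ← hy, smul_comm, ← Submonoid.smul_def]
  exact ht

theorem hull_localizedMap {f : M →ₗ[R] E} (hf : IsInjectiveHull f) :
    IsInjectiveHull (LocalizedModule.map S f) := by
  haveI := hf.isInjective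
  refine ⟨⟨LocalizedModule.map_injective S f hf.injective, fun L hL h => ?_⟩,
    Module.injective_of_isLocalizedModule S (LocalizedModule.mkLinearMap S E)⟩
  refine localized_inf_ne_bot S (LinearMap.range f) hf.essential L hL ?_
  rw [Submodule.eq_bot_iff]
  rintro z ⟨hzL, m, ⟨x, rfl⟩, s, rfl⟩
  refine (Submodule.eq_bot_iff _).1 h _ ⟨hzL, LocalizedModule.mk x s, ?_⟩
  rw [LocalizedModule.map_mk]
  exact IsLocalizedModule.mk_eq_mk' s (f x)

theorem hull_ptor_eq_top (p : Ideal R) {f : (R ⧸ p) →ₗ[R] E} (hf : IsInjectiveHull f) :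
    ∀ x : E, ∃ n : ℕ, ∀ r ∈ p ^ n, r • x = 0 := by
  let G : Submodule R E :=
    { carrier := {x | ∃ n : ℕ, ∀ r ∈ p ^ n, r • x = 0}
      zero_mem' := ⟨0, fun r _ => smul_zero r⟩
      add_mem' := by
        rintro x y ⟨k, hk⟩ ⟨l, hl⟩
        refine ⟨k + l, fun r hr => ?_⟩
        rw [smul_add, hk r (Ideal.pow_le_pow_right (Nat.le_add_right k l) hr),
          hl r (Ideal.pow_le_pow_right (Nat.le_add_left l k) hr), add_zero]
      smul_mem' := by
        rintro c x ⟨k, hk⟩
        exact ⟨k, fun r hr => by rw [smul_comm, hk r hr, smul_zero]⟩ }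
  have := eq_top_of_injective_of_range_le hf.toIsEssentialInj
    (powerTorsion_injective hf.isInjective p G fun x => Iff.rfl) (by
      rintro _ ⟨q, rfl⟩
      obtain ⟨b, rfl⟩ := Ideal.Quotient.mk_surjective q
      exact ⟨1, fun r hr => by
        rw [← map_smul, Algebra.smul_def, Ideal.Quotient.algebraMap_eq,
          Ideal.Quotient.eq_zero_iff_mem.2 (by simpa using hr), zero_mul, map_zero]⟩)
  exact fun x => (this ▸ Submodule.mem_top : x ∈ G)

theorem hull_localized_bijective (p : Ideal R) [p.IsPrime] {f : (R ⧸ p) →ₗ[R] E}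
    (hf : IsInjectiveHull f) (hd : Disjoint (p : Set R) S) :
    Function.Bijective (LocalizedModule.mkLinearMap S E) := by
  have hb : ∀ s : S, Function.Bijective (fun x : E => (s : R) • x) := fun s =>
    smul_bijective_hull p hf (Set.disjoint_right.1 hd s.2)
  constructor
  · rw [← LinearMap.ker_eq_bot, Submodule.eq_bot_iff]
    intro x hx
    obtain ⟨s, hs⟩ := (IsLocalizedModule.eq_zero_iff S (LocalizedModule.mkLinearMap S E)).1 hx
    exact (hb s).1 (by simpa [Submonoid.smul_def] using hs)
  · intro z
    induction z using LocalizedModule.induction_on with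
    | h x s =>
      obtain ⟨y, hy⟩ := (hb s).2 x
      refine ⟨y, ?_⟩
      rw [LocalizedModule.mkLinearMap_apply, ← show (s : R) • y = x from hy, ← Submonoid.smul_def,
        LocalizedModule.mk_cancel]

theorem hull_localized_quotient (p : Ideal R) [p.IsPrime] {f : (R ⧸ p) →ₗ[R] E}
    (hf : IsInjectiveHull f) (hd : Disjoint (p : Set R) S) :
    ∃ g : (Localization S ⧸ p.map (algebraMap R (Localization S))) →ₗ[Localization S]
      LocalizedModule S E, IsInjectiveHull g := by
  haveI := hf.isInjective
  have hb := hull_localized_bijective S p hf hd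
  set e₁ := LocalizedModule.mk (f 1) (1 : S)
  have hmk : ∀ a : R, algebraMap R (Localization S) a • e₁ =
      LocalizedModule.mk (f (Ideal.Quotient.mk p a)) (1 : S) := by
    intro a
    rw [algebraMap_smul, LocalizedModule.smul'_mk, ← map_smul, Algebra.smul_def, mul_one,
      Ideal.Quotient.algebraMap_eq]
  let g := (p.map (algebraMap R (Localization S))).liftQ
    (LinearMap.toSpanSingleton (Localization S) (LocalizedModule S E) e₁) (Ideal.span_le.2 (by
      rintro _ ⟨a, ha, rfl⟩
      rw [SetLike.mem_coe, LinearMap.mem_ker, LinearMap.toSpanSingleton_apply, hmk,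
        Ideal.Quotient.eq_zero_iff_mem.2 ha, map_zero, LocalizedModule.zero_mk]))
  refine ⟨g, ⟨essential_iff.2 ⟨?_, ?_⟩,
    Module.injective_of_isLocalizedModule S (LocalizedModule.mkLinearMap S E)⟩⟩
  · rw [← LinearMap.ker_eq_bot]
    refine Submodule.ker_liftQ_eq_bot _ _ _ fun z hz => ?_
    obtain ⟨⟨a, s⟩, has⟩ := IsLocalization.surj S z
    have h0 : algebraMap R (Localization S) a • e₁ = 0 := by
      rw [← has, mul_comm, mul_smul, show z • e₁ = 0 from LinearMap.mem_ker.1 hz, smul_zero]
    rw [hmk, ← LocalizedModule.mkLinearMap_apply,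
      (injective_iff_map_eq_zero' _).1 hb.1, (injective_iff_map_eq_zero' _).1 hf.injective,
      Ideal.Quotient.eq_zero_iff_mem] at h0
    have hz' : z * algebraMap R (Localization S) (s : R) ∈ p.map (algebraMap R (Localization S)) :=
      has ▸ Ideal.mem_map_of_mem _ h0
    exact (Ideal.mul_unit_mem_iff_mem _ (IsLocalization.map_units (Localization S) s)).1 hz'
  · intro w hw
    induction w using LocalizedModule.induction_on with
    | h x s =>
      obtain ⟨r, ⟨q, hq⟩, hr0⟩ := IsEssentialInj.exists_smul hf.toIsEssentialInj (x := x)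
        (fun h => hw (by rw [h, LocalizedModule.zero_mk]))
      obtain ⟨a, rfl⟩ := Ideal.Quotient.mk_surjective q
      have key : (Localization.mk (r * s) (1 : S) : Localization S) • LocalizedModule.mk x s =
          LocalizedModule.mk (r • x) (1 : S) := by
        rw [LocalizedModule.mk_smul_mk, one_mul, mul_comm, mul_smul, ← Submonoid.smul_def,
          LocalizedModule.mk_cancel]
      refine ⟨Localization.mk (r * s) (1 : S), ⟨Ideal.Quotient.mk _ (algebraMap R _ a), ?_⟩, ?_⟩
      · rw [key, ← hq, ← hmk]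
        rfl
      · rw [key, ← LocalizedModule.mkLinearMap_apply, Ne, (injective_iff_map_eq_zero' _).1 hb.1]
        exact hr0

theorem hull_maximal_isArtinian (m : Ideal R) [m.IsMaximal] {f : (R ⧸ m) →ₗ[R] E}
    (hf : IsInjectiveHull f) : IsArtinian R E := by
  have hd : Disjoint (m : Set R) m.primeCompl := Set.disjoint_right.2 fun s hs => hs
  obtain ⟨g, hg⟩ := hull_localized_quotient m.primeCompl m hf hd
  have hb := hull_localized_bijective m.primeCompl m hf hd
  have hq : m.map (algebraMap R (Localization.AtPrime m)) =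
      IsLocalRing.maximalIdeal (Localization.AtPrime m) := Localization.AtPrime.map_eq_maximalIdeal
  haveI := hull_isArtinian (R := Localization.AtPrime m)
    (hull_precomp hg (Submodule.quotEquivOfEq _ _ hq).symm)
  have hinj : Function.Injective (Submodule.localized m.primeCompl (M := E)) := by
    intro N N' h
    suffices key : ∀ (K : Submodule R E) (x : E),
        LocalizedModule.mk x (1 : m.primeCompl) ∈ Submodule.localized m.primeCompl K → x ∈ K by
      refine le_antisymm (fun x hx => key N' x ?_) (fun x hx => key N x ?_)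
      · rw [← h]; exact ⟨x, hx, 1, by simp⟩
      · rw [h]; exact ⟨x, hx, 1, by simp⟩
    rintro K x ⟨y, hy, s, hs⟩
    rw [IsLocalizedModule.mk'_eq_iff, ← LocalizedModule.mkLinearMap_apply, Submonoid.smul_def,
      ← map_smul] at hs
    rw [hb.1 hs] at hy
    obtain ⟨n, hn⟩ := hull_ptor_eq_top m hf x
    have hco : Ideal.span {(s : R)} ⊔ m = ⊤ := by
      rw [sup_comm]
      refine Ideal.IsMaximal.out.2 _ (lt_of_le_of_ne le_sup_left fun he => s.2 ?_)
      exact (SetLike.ext_iff.1 he (s : R)).2
        (Ideal.mem_sup_right (Ideal.mem_span_singleton_self _))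
    obtain ⟨u, hu, v, hv, huv⟩ := Submodule.mem_sup.1
      ((Ideal.eq_top_iff_one _).1 (Ideal.pow_sup_pow_eq_top (m := 1) (n := n) hco))
    rw [pow_one, Ideal.mem_span_singleton'] at hu
    obtain ⟨c, rfl⟩ := hu
    rw [← one_smul R x, ← huv, add_smul, hn v hv, add_zero, mul_smul]
    exact K.smul_mem c hy
  have hmono : StrictMono (Submodule.localized m.primeCompl (M := E)) :=
    Monotone.strictMono_of_injective
      (fun N N' h z ⟨y, hy, s, hs⟩ => ⟨y, h hy, s, hs⟩) hinj
  haveI := hmono.wellFoundedLT
  exact ⟨IsWellFounded.wf⟩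

end GrothMatlis
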