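import Groth.Agent.Matlis.Hull
import Mathlib.RingTheory.LocalRing.ResidueField.Ideal
import Mathlib.LinearAlgebra.Quotient.Basic

/-!
# Indecomposable injectives and prime ideals

Helper library (no milestone statements here).
-/

universe u

namespace GrothMatlis

open InjHull

variable {R : Type u} [CommRing R]
variable {M E : Type u} [AddCommGroup M] [Module R M] [AddCommGroup E] [Module R E]

theorem uniform_of_indecomposable (hE : IsIndecomposable R E) (hinj : Module.Injective R E)
    {N N' : Submodule R E} (hN : N ≠ ⊥) (hN' : N' ≠ ⊥) : N ⊓ N' ≠ ⊥ := by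
  obtain ⟨A, hA, hAinj⟩ := exists_hull_submodule hinj N
  obtain ⟨C, hC⟩ := exists_isCompl_of_injective_submodule hAinj
  rcases hE.2 A C hC with h | h
  · exact absurd (le_bot_iff.1 (h ▸ hA.1)) hN
  · have : A = ⊤ := by simpa [h] using hC.sup_eq_top
    rw [inf_comm]
    exact hA.2 N' (this ▸ le_top) hN'

/-- An injective hull of a uniform module is indecomposable. -/
theorem indecomposable_of_uniform [Nontrivial M]
    (hU : ∀ N N' : Submodule R M, N ≠ ⊥ → N' ≠ ⊥ → N ⊓ N' ≠ ⊥)
    {f : M →ₗ[R] E} (hf : IsEssentialInj f) : IsIndecomposable R E := by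
  refine ⟨hf.injective.nontrivial, fun A B h => ?_⟩
  by_contra hne
  rw [not_or] at hne
  have key : ∀ Q : Submodule R E, Q ≠ ⊥ → Q.comap f ≠ ⊥ := fun Q hQ h0 => by
    refine hf.essential Q hQ ((Submodule.eq_bot_iff _).2 ?_)
    rintro x ⟨hx, y, rfl⟩
    rw [(Submodule.eq_bot_iff _).1 h0 y hx, map_zero]
  refine hU _ _ (key A hne.1) (key B hne.2) ?_
  rw [← Submodule.comap_inf, h.inf_eq_bot, Submodule.comap_bot, LinearMap.ker_eq_bot]
  exact hf.injective

theorem quotient_prime_uniform (p : Ideal R) [p.IsPrime] (N N' : Submodule R (R ⧸ p))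
    (hN : N ≠ ⊥) (hN' : N' ≠ ⊥) : N ⊓ N' ≠ ⊥ := by
  obtain ⟨x, hx, hx0⟩ := Submodule.exists_mem_ne_zero_of_ne_bot hN
  obtain ⟨y, hy, hy0⟩ := Submodule.exists_mem_ne_zero_of_ne_bot hN'
  obtain ⟨a, rfl⟩ := Ideal.Quotient.mk_surjective x
  obtain ⟨b, rfl⟩ := Ideal.Quotient.mk_surjective y
  intro h
  have h1 : Ideal.Quotient.mk p (a * b) = b • Ideal.Quotient.mk p a := by
    rw [Algebra.smul_def, map_mul, mul_comm]; rfl
  have h2 : Ideal.Quotient.mk p (a * b) = a • Ideal.Quotient.mk p b := by
    rw [Algebra.smul_def, map_mul]; rfl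
  have := (Submodule.eq_bot_iff _).1 h (Ideal.Quotient.mk p (a * b))
    ⟨h1 ▸ N.smul_mem b hx, h2 ▸ N'.smul_mem a hy⟩
  rw [map_mul] at this
  exact (mul_ne_zero hx0 hy0) this

theorem indecomposable_hull_quotient_prime (p : Ideal R) [p.IsPrime] {f : (R ⧸ p) →ₗ[R] E}
    (hf : IsEssentialInj f) : IsIndecomposable R E :=
  indecomposable_of_uniform (quotient_prime_uniform p) hf

/-- The inclusion of `R ⧸ p` into its residue field, as an `R`-linear map. -/
noncomputable def toResidueField (p : Ideal R) [p.IsPrime] : (R ⧸ p) →ₗ[R] p.ResidueField :=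
  (IsScalarTower.toAlgHom R (R ⧸ p) p.ResidueField).toLinearMap

theorem toResidueField_essential (p : Ideal R) [p.IsPrime] :
    IsEssentialInj (toResidueField p) := by
  refine essential_iff.2 ⟨IsFractionRing.injective (R ⧸ p) p.ResidueField, fun x hx => ?_⟩
  obtain ⟨a, b, hb, rfl⟩ := IsFractionRing.div_surjective (R ⧸ p) x
  obtain ⟨r, rfl⟩ := Ideal.Quotient.mk_surjective b
  have hb0 : algebraMap (R ⧸ p) p.ResidueField (Ideal.Quotient.mk p r) ≠ 0 :=
    IsFractionRing.to_map_ne_zero_of_mem_nonZeroDivisors hb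
  have hr : r • (algebraMap (R ⧸ p) p.ResidueField a /
      algebraMap (R ⧸ p) p.ResidueField (Ideal.Quotient.mk p r)) =
      algebraMap (R ⧸ p) p.ResidueField a := by
    rw [Algebra.smul_def, IsScalarTower.algebraMap_apply R (R ⧸ p) p.ResidueField,
      Ideal.Quotient.algebraMap_eq, mul_div_cancel₀ _ hb0]
  exact ⟨r, ⟨a, by rw [hr]; rfl⟩, by rw [hr]; exact (div_ne_zero_iff.1 hx).1⟩

/-- A hull of `R ⧸ p` is a hull of the residue field. -/
theorem exists_hull_residueField (p : Ideal R) [p.IsPrime] {f : (R ⧸ p) →ₗ[R] E}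
    (hf : IsInjectiveHull f) :
    ∃ g : p.ResidueField →ₗ[R] E, IsInjectiveHull g ∧ g ∘ₗ toResidueField p = f := by
  obtain ⟨g, hg⟩ := hf.isInjective.out _ (toResidueField_essential p).injective f
  have h : g ∘ₗ toResidueField p = f := LinearMap.ext hg
  have hinj : Function.Injective g :=
    IsEssentialInj.injective_of_comp (toResidueField_essential p) (h.symm ▸ hf.injective)
  exact ⟨g, ⟨IsEssentialInj.right_of_comp hinj (h.symm ▸ hf.toIsEssentialInj), hf.isInjective⟩, h⟩

/-- A hull of the residue field at `p` is a hull of `R ⧸ p`. -/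
theorem hull_quotient_of_hull_residueField (p : Ideal R) [p.IsPrime]
    {g : p.ResidueField →ₗ[R] E} (hg : IsInjectiveHull g) :
    IsInjectiveHull (g ∘ₗ toResidueField p) :=
  ⟨IsEssentialInj.comp (toResidueField_essential p) hg.toIsEssentialInj, hg.isInjective⟩

/-- On a hull of `R ⧸ p`, elements outside `p` act bijectively. -/
theorem smul_bijective_hull (p : Ideal R) [p.IsPrime] {f : (R ⧸ p) →ₗ[R] E}
    (hf : IsInjectiveHull f) {r : R} (hr : r ∉ p) : Function.Bijective (fun x : E => r • x) := by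
  have hinj : Function.Injective (LinearMap.lsmul R E r) := by
    refine IsEssentialInj.injective_of_comp hf.toIsEssentialInj fun a b hab => ?_
    have hab' : f (r • a) = f (r • b) := by simpa using hab
    have h := hf.injective hab'
    rw [Algebra.smul_def, Algebra.smul_def, Ideal.Quotient.algebraMap_eq] at h
    exact mul_left_cancel₀ (fun h0 => hr (Ideal.Quotient.eq_zero_iff_mem.1 h0)) h
  refine ⟨hinj, ?_⟩
  obtain ⟨C, hC⟩ := exists_isCompl_of_injective hf.isInjective _ hinj
  have hnt := (indecomposable_hull_quotient_prime p hf.toIsEssentialInj)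
  rcases hnt.2 _ _ hC with h | h
  · have := hnt.1
    obtain ⟨x, hx⟩ := exists_ne (0 : E)
    exact absurd (hinj (by rw [LinearMap.range_eq_bot.1 h]; simp)) hx
  · have : LinearMap.range (LinearMap.lsmul R E r) = ⊤ := by simpa [h] using hC.sup_eq_top
    exact LinearMap.range_eq_top.1 this

/-- The zero divisors of a uniform module form a prime ideal. -/
theorem exists_prime_zeroDivisors (hE : IsIndecomposable R E) (hinj : Module.Injective R E) :
    ∃ p : Ideal R, p.IsPrime ∧ (p : Set R) = {r : R | ∃ x : E, x ≠ 0 ∧ r • x = 0} := by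
  have := hE.1
  let p : Ideal R :=
    { carrier := {r : R | ∃ x : E, x ≠ 0 ∧ r • x = 0}
      zero_mem' := by
        obtain ⟨x, hx⟩ := exists_ne (0 : E)
        exact ⟨x, hx, zero_smul R x⟩
      add_mem' := by
        rintro r s ⟨x, hx, hrx⟩ ⟨y, hy, hsy⟩
        obtain ⟨z, hz, hz0⟩ := Submodule.exists_mem_ne_zero_of_ne_bot
          (uniform_of_indecomposable hE hinj (N := R ∙ x) (N' := R ∙ y) (by simpa using hx)
            (by simpa using hy))
        obtain ⟨a, ha⟩ := Submodule.mem_span_singleton.1 hz.1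
        obtain ⟨b, hb⟩ := Submodule.mem_span_singleton.1 hz.2
        refine ⟨z, hz0, ?_⟩
        rw [add_smul]
        nth_rewrite 1 [← ha]
        rw [← hb, smul_comm r a, hrx, smul_comm s b, hsy, smul_zero, smul_zero, add_zero]
      smul_mem' := by
        rintro c r ⟨x, hx, hrx⟩
        exact ⟨x, hx, by rw [smul_eq_mul, mul_smul, hrx, smul_zero]⟩ }
  refine ⟨p, ⟨fun h => ?_, fun {r s} hrs => ?_⟩, rfl⟩
  · obtain ⟨x, hx, h1⟩ : (1 : R) ∈ p := h ▸ Submodule.mem_top
    exact hx (by simpa using h1)
  · obtain ⟨x, hx, hrsx⟩ := hrs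
    by_cases hs : s • x = 0
    · exact Or.inr ⟨x, hx, hs⟩
    · exact Or.inl ⟨s • x, hs, by rwa [← mul_smul]⟩

section Noetherian

variable [IsNoetherianRing R]

theorem exists_quotient_prime_map [Nontrivial E] :
    ∃ (p : Ideal R) (_ : p.IsPrime) (f : (R ⧸ p) →ₗ[R] E), Function.Injective f := by
  obtain ⟨p, hp⟩ := associatedPrimes.nonempty R E
  obtain ⟨h1, f, hf⟩ := (isAssociatedPrime_iff_exists_injective_linearMap p E).1 hp
  exact ⟨p, h1, f, hf⟩

/-- Over a Noetherian ring an indecomposable injective is a hull of some `R ⧸ p`. -/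
theorem exists_prime_hull (hE : IsIndecomposable R E) (hinj : Module.Injective R E) :
    ∃ (p : Ideal R) (_ : p.IsPrime) (f : (R ⧸ p) →ₗ[R] E), IsInjectiveHull f := by
  have := hE.1
  obtain ⟨p, hp, f, hf⟩ := exists_quotient_prime_map (R := R) (E := E)
  refine ⟨p, hp, f, ⟨⟨hf, fun Q hQ => ?_⟩, hinj⟩⟩
  refine uniform_of_indecomposable hE hinj hQ fun h => ?_
  rw [LinearMap.range_eq_bot] at h
  have : (1 : R ⧸ p) = 0 := hf (by simp [h])
  exact one_ne_zero this

/-- A nonzero injective has an indecomposable injective summand. -/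
theorem exists_indecomposable_submodule [Nontrivial E] (hinj : Module.Injective R E) :
    ∃ A : Submodule R E, IsIndecomposable R A ∧ Module.Injective R A := by
  obtain ⟨p, hp, f, hf⟩ := exists_quotient_prime_map (R := R) (E := E)
  obtain ⟨A, hA, hAinj⟩ := exists_hull_submodule hinj (LinearMap.range f)
  refine ⟨A, ?_, hAinj⟩
  exact indecomposable_hull_quotient_prime p
    (IsEssentialInj.comp (IsEssentialInj.of_linearEquiv (LinearEquiv.ofInjective f hf))
      (EssIn.isEssentialInj hA))

open Classical in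
/-- Every injective over a Noetherian ring is a direct sum of indecomposable injectives. -/
theorem exists_decomposition (hinj : Module.Injective R E) :
    ∃ (ι : Type u) (F : ι → Submodule R E), DirectSum.IsInternal F ∧
      ∀ i, IsIndecomposable R (F i) ∧ Module.Injective R (F i) := by
  let good : Set (Set (Submodule R E)) :=
    {S | (∀ A ∈ S, IsIndecomposable R A ∧ Module.Injective R A) ∧ sSupIndep S}
  obtain ⟨S, hS⟩ : ∃ S, Maximal (· ∈ good) S := by
    refine zorn_subset good fun c hc hch => ⟨⋃₀ c, ⟨?_, ?_⟩, fun s hs => Set.subset_sUnion_of_mem hs⟩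
    · rintro A ⟨s, hs, hA⟩; exact (hc hs).1 A hA
    · rcases c.eq_empty_or_nonempty with rfl | hne
      · simp [sSupIndep]
      · exact iSupIndep_sUnion_of_directed hch.directedOn fun s hs => (hc hs).2
  have hind : iSupIndep (fun A : S => (A : Submodule R E)) := (sSupIndep_iff S).1 hS.1.2
  set F := fun A : S => (A : Submodule R E) with hF
  have hsum : Module.Injective R (DirectSum S fun A => F A) :=
    directSum_injective _ fun A => (hS.1.1 A A.2).2
  let e := DirectSum.coeLinearMap F
  have heinj : Function.Injective e := hind.dfinsupp_lsum_injective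
  have hrange : LinearMap.range e = ⨆ A, F A := DirectSum.range_coeLinearMap
  obtain ⟨C, hC⟩ := exists_isCompl_of_injective hsum e heinj
  suffices htop : iSup F = ⊤ from ⟨S, F, by
    convert (DirectSum.isInternal_submodule_iff_iSupIndep_and_iSup_eq_top F).2 ⟨hind, htop⟩,
    fun A => hS.1.1 A A.2⟩
  rw [← hrange]
  rcases eq_or_ne C ⊥ with h | h
  · simpa [h] using hC.sup_eq_top
  exfalso
  have : Nontrivial C := Submodule.nontrivial_iff_ne_bot.2 h
  obtain ⟨B, hB, hBinj⟩ := exists_indecomposable_submodule (injective_of_isCompl hinj hC.symm)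
  let B' := B.map C.subtype
  have hBe : B ≃ₗ[R] B' := Submodule.equivMapOfInjective C.subtype C.injective_subtype B
  have hB' : IsIndecomposable R B' ∧ Module.Injective R B' := by
    refine ⟨⟨(haveI := hB.1; hBe.injective.nontrivial), fun P Q hPQ => ?_⟩,
      injective_of_equiv hBinj hBe.symm⟩
    rcases hB.2 (P.comap hBe.toLinearMap) (Q.comap hBe.toLinearMap)
      ⟨by
        rw [disjoint_iff, ← Submodule.comap_inf, hPQ.inf_eq_bot, Submodule.comap_bot,
          LinearEquiv.ker], by
        rw [Submodule.comap_equiv_eq_map_symm, Submodule.comap_equiv_eq_map_symm, codisjoint_iff,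
          ← Submodule.map_sup, hPQ.sup_eq_top, Submodule.map_top, LinearEquiv.range]⟩ with h1 | h1
    · exact Or.inl (Submodule.comap_injective_of_surjective hBe.surjective
        (by rw [h1, Submodule.comap_bot, LinearEquiv.ker]))
    · exact Or.inr (Submodule.comap_injective_of_surjective hBe.surjective
        (by rw [h1, Submodule.comap_bot, LinearEquiv.ker]))
  have hle : B' ≤ C := by rintro x ⟨y, -, rfl⟩; exact y.2
  have hne : B' ≠ ⊥ := by
    intro h0
    have := hB'.1.1
    exact (Submodule.nontrivial_iff_ne_bot.1 this) h0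
  have hsup : sSup S = LinearMap.range e := by rw [hrange, hF, sSup_eq_iSup']
  have hdisj : Disjoint (sSup S) B' := hsup ▸ hC.disjoint.mono_right hle
  have hnot : B' ∉ S := fun hm => hne (hdisj.eq_bot_of_ge (le_sSup hm))
  refine hnot (hS.2 (y := insert B' S) ⟨?_, ?_⟩ (Set.subset_insert _ _) (Set.mem_insert _ _))
  · rintro A (rfl | hA)
    exacts [hB', hS.1.1 A hA]
  · intro A hA
    rw [Set.mem_insert_iff] at hA
    rcases hA with rfl | hA
    · refine hdisj.symm.mono_right (sSup_le_sSup ?_)
      rintro x ⟨hx1, hx2⟩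
      exact (Set.mem_insert_iff.1 hx1).resolve_left hx2
    · have h1 : A ⊔ sSup (S \ {A}) ≤ sSup S := sup_le (le_sSup hA) (sSup_le_sSup Set.sdiff_subset)
      have h2 : Disjoint A (sSup (S \ {A}) ⊔ B') :=
        Disjoint.disjoint_sup_right_of_disjoint_sup_left (hS.1.2 hA) (hdisj.mono_left h1)
      refine h2.mono_right (sSup_le ?_)
      rintro x ⟨hx1, hx2⟩
      rcases hx1 with rfl | hx1
      · exact le_sup_right
      · exact le_sup_of_le_left (le_sSup ⟨hx1, hx2⟩)

end Noetherian

end GrothMatlis
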