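import Groth.Agent.Matlis.Criterion
import Mathlib.RingTheory.LocalRing.Length
import Mathlib.RingTheory.Flat.Basic
import Mathlib.LinearAlgebra.TensorProduct.Pi

/-!
# Injective hulls along flat local homomorphisms

Helper library (no milestone statements here).
-/

universe u

open TensorProduct

namespace GrothMatlis

open InjHull IsLocalRing

section Torsion

variable {A B : Type u} [CommRing A] [CommRing B] [Algebra A B] [Module.Flat A B]
variable {M : Type u} [AddCommGroup M] [Module A M]

/-- For flat `A → B` and finitely generated `a`, the `aB`-torsion of `B ⊗ M` is the base change of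
the `a`-torsion of `M`. -/
theorem torsion_baseChange_range (a : Ideal A) (ha : a.FG) :
    LocCoh.torsionBy (a.map (algebraMap A B)) (B ⊗[A] M) =
      LinearMap.range ((LocCoh.torsionBy a M).subtype.baseChange B) := by
  refine le_antisymm (fun x hx => ?_) ?_
  · obtain ⟨k, r, hr⟩ := Submodule.fg_iff_exists_fin_generating_family.1 ha
    let g : M →ₗ[A] (Fin k → M) := LinearMap.pi fun i => LinearMap.lsmul A M (r i)
    have hex : Function.Exact (LocCoh.torsionBy a M).subtype g := by
      intro y
      constructor
      · intro h
        refine ⟨⟨y, (Submodule.mem_torsionBySet_iff _ _).2 ?_⟩, rfl⟩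
        rintro ⟨s, hs⟩
        have hle : a ≤ LinearMap.ker (LinearMap.toSpanSingleton A M y) := by
          rw [← hr, Submodule.span_le]
          rintro _ ⟨i, rfl⟩
          rw [SetLike.mem_coe, LinearMap.mem_ker, LinearMap.toSpanSingleton_apply]
          exact congrFun h i
        simpa using hle hs
      · rintro ⟨z, rfl⟩
        funext i
        exact (Submodule.mem_torsionBySet_iff _ _).1 z.2
          ⟨r i, hr ▸ Submodule.subset_span ⟨i, rfl⟩⟩
    have hex' : Function.Exact ((LocCoh.torsionBy a M).subtype.lTensor B) (g.lTensor B) :=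
      Module.Flat.lTensor_exact B hex
    have hgx : g.lTensor B x = 0 := by
      refine (piRight A B B (fun _ : Fin k => M)).injective ?_
      rw [map_zero]
      funext i
      have key : ∀ z : B ⊗[A] M,
          piRight A B B (fun _ : Fin k => M) (g.lTensor B z) i = algebraMap A B (r i) • z := by
        intro z
        induction z using TensorProduct.induction_on with
        | zero => simp
        | tmul b m => simp [g, TensorProduct.smul_tmul', ← Algebra.smul_def]
        | add z w hz hw => rw [map_add, map_add, Pi.add_apply, hz, hw, smul_add]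
      rw [key, Pi.zero_apply]
      exact (Submodule.mem_torsionBySet_iff _ _).1 hx
        ⟨_, Ideal.mem_map_of_mem _ (hr ▸ Submodule.subset_span ⟨i, rfl⟩)⟩
    obtain ⟨z, rfl⟩ := (hex' x).1 hgx
    exact ⟨z, rfl⟩
  · rintro _ ⟨z, rfl⟩
    induction z using TensorProduct.induction_on with
    | zero => rw [map_zero]; exact zero_mem _
    | add z w hz hw => rw [map_add]; exact add_mem hz hw
    | tmul b m =>
      rw [LinearMap.baseChange_tmul, Submodule.subtype_apply, Submodule.mem_torsionBySet_iff]
      rintro ⟨s, hs⟩
      show s • (b ⊗ₜ[A] (m : M)) = 0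
      refine Submodule.span_induction (fun y hy => ?_) (zero_smul B _)
        (fun y y' _ _ h h' => by rw [add_smul, h, h', add_zero])
        (fun c y _ h => by rw [smul_eq_mul, mul_smul, h, smul_zero]) hs
      obtain ⟨t, ht, rfl⟩ := hy
      rw [algebraMap_smul, ← TensorProduct.tmul_smul,
        show t • (m : M) = 0 from (Submodule.mem_torsionBySet_iff _ _).1 m.2 ⟨t, ht⟩,
        TensorProduct.tmul_zero]

noncomputable def torsionBaseChangeEquiv (a : Ideal A) (ha : a.FG) :
    B ⊗[A] (LocCoh.torsionBy a M) ≃ₗ[B] LocCoh.torsionBy (a.map (algebraMap A B)) (B ⊗[A] M) :=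
  LinearEquiv.ofInjective ((LocCoh.torsionBy a M).subtype.baseChange B)
    (Module.Flat.lTensor_preserves_injective_linearMap _ Subtype.val_injective) ≪≫ₗ
    LinearEquiv.ofEq _ _ (torsion_baseChange_range a ha).symm

end Torsion

variable {A B : Type u} [CommRing A] [IsLocalRing A] [IsNoetherianRing A] [CommRing B]
  [IsLocalRing B] [IsNoetherianRing B] [Algebra A B] [IsLocalHom (algebraMap A B)] [Module.Flat A B]
variable {E : Type u} [AddCommGroup E] [Module A E] {f : IsLocalRing.ResidueField A →ₗ[A] E}

omit [IsNoetherianRing B] in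
theorem baseChange_isPowerTorsion (hf : IsInjectiveHull f) :
    LocCoh.IsPowerTorsion ((maximalIdeal A).map (algebraMap A B)) (B ⊗[A] E) := by
  intro x
  induction x using TensorProduct.induction_on with
  | zero => exact ⟨0, fun r _ => smul_zero r⟩
  | add z w hz hw =>
    obtain ⟨k, hk⟩ := hz
    obtain ⟨l, hl⟩ := hw
    exact ⟨k + l, fun r hr => by rw [smul_add, hk r (Ideal.pow_le_pow_right (Nat.le_add_right k l) hr),
      hl r (Ideal.pow_le_pow_right (Nat.le_add_left l k) hr), add_zero]⟩
  | tmul b e =>
    obtain ⟨n, hn⟩ := hull_isPowerTorsion hf e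
    refine ⟨n, fun r hr => ?_⟩
    rw [← Ideal.map_pow] at hr
    refine Submodule.span_induction (fun y hy => ?_) (zero_smul B _)
      (fun y y' _ _ h h' => by rw [add_smul, h, h', add_zero])
      (fun c y _ h => by rw [smul_eq_mul, mul_smul, h, smul_zero]) hr
    obtain ⟨t, ht, rfl⟩ := hy
    rw [algebraMap_smul, ← TensorProduct.tmul_smul, hn t ht, TensorProduct.tmul_zero]

omit [IsNoetherianRing B] in
/-- The length of `(B ⊗ E)[aB]`. -/
theorem length_torsion_baseChange (hf : IsInjectiveHull f) (a : Ideal A)
    (ha : IsFiniteLength A (A ⧸ a)) :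
    Module.length B (LocCoh.torsionBy (a.map (algebraMap A B)) (B ⊗[A] E)) =
      Module.length A (A ⧸ a) * Module.length B (B ⧸ (maximalIdeal A).map (algebraMap A B)) := by
  rw [← (torsionBaseChangeEquiv (B := B) a (IsNoetherian.noetherian a)).length_eq,
    IsLocalRing.length_baseChange A B, length_torsion hf ha]

/-- Hom out of a cyclic module, over an arbitrary ring, as torsion. -/
theorem length_hom_quotient (I : Ideal B) :
    Module.length B ((B ⧸ I) →ₗ[B] (B ⊗[A] E)) =
      Module.length B (LocCoh.torsionBy I (B ⊗[A] E)) :=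
  (dualQuotientEquiv I).length_eq

/-- Base change of the hull along an unramified flat local homomorphism is the hull. -/
theorem exists_hull_baseChange (hf : IsInjectiveHull f)
    (hm : (maximalIdeal A).map (algebraMap A B) = maximalIdeal B) :
    ∃ g : ResidueField B →ₗ[B] B ⊗[A] E, IsInjectiveHull g := by
  have hone : Module.length B (B ⧸ (maximalIdeal A).map (algebraMap A B)) = 1 := by
    rw [hm]
    have : IsSimpleModule B (B ⧸ maximalIdeal B) := isSimpleModule_residueField B
    exact Module.length_eq_one B _
  have key : ∀ a : Ideal A, IsFiniteLength A (A ⧸ a) →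
      Module.length B ((B ⧸ a.map (algebraMap A B)) →ₗ[B] B ⊗[A] E) = Module.length A (A ⧸ a) := by
    intro a ha
    rw [length_hom_quotient, length_torsion_baseChange hf a ha, hone, mul_one]
  refine hull_of_length_cofinal (hm ▸ baseChange_isPowerTorsion hf) ?_
    (fun n => maximalIdeal B ^ n) (fun n => ⟨n, le_rfl⟩) (fun N => ⟨N, le_rfl⟩) fun n => ?_
  · refine Module.length_eq_one_iff.1 ?_
    haveI := isSimpleModule_residueField A
    have h1 := key (maximalIdeal A) (isFiniteLength_iff_isNoetherian_isArtinian.2
      ⟨inferInstance, inferInstanceAs (IsArtinian A (ResidueField A))⟩)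
    rw [hm] at h1
    rw [show Module.length A (A ⧸ maximalIdeal A) = 1 from Module.length_eq_one A (ResidueField A)] at h1
    exact h1
  · show Module.length B (B ⧸ maximalIdeal B ^ n) =
      Module.length B ((B ⧸ maximalIdeal B ^ n) →ₗ[B] B ⊗[A] E)
    rw [← hm, ← Ideal.map_pow, key _ (isFiniteLength_quotient_pow n),
      (Algebra.TensorProduct.quotIdealMapEquivTensorQuot B
        (maximalIdeal A ^ n)).toLinearEquiv.length_eq, IsLocalRing.length_baseChange A B, hone,
      mul_one]

end GrothMatlis
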