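import Groth.Prelude.Def_Wider
import Mathlib.Algebra.Category.ModuleCat.Injective
import Mathlib.Algebra.Category.ModuleCat.EnoughInjectives
import Mathlib.RingTheory.Noetherian.Basic
import Mathlib.RingTheory.Filtration
import Mathlib.Algebra.DirectSum.Module
import Mathlib.RingTheory.Ideal.AssociatedPrime.Basic
import Mathlib.Algebra.DirectSum.LinearMap

/-!
# Essential extensions and injective hulls

Helper library (no milestone statements here).
-/

universe u v

namespace GrothMatlis

open InjHull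

section Essential

variable {R : Type u} [CommRing R]
variable {M N P : Type v} [AddCommGroup M] [Module R M] [AddCommGroup N] [Module R N]
  [AddCommGroup P] [Module R P]

theorem essential_iff {f : M →ₗ[R] N} :
    IsEssentialInj f ↔ Function.Injective f ∧
      ∀ x : N, x ≠ 0 → ∃ r : R, r • x ∈ LinearMap.range f ∧ r • x ≠ 0 := by
  constructor
  · rintro ⟨hi, he⟩
    refine ⟨hi, fun x hx => ?_⟩
    have h := he (R ∙ x) (by simpa using hx)
    obtain ⟨y, hy, hy0⟩ := Submodule.exists_mem_ne_zero_of_ne_bot h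
    obtain ⟨r, rfl⟩ := Submodule.mem_span_singleton.1 hy.1
    exact ⟨r, hy.2, hy0⟩
  · rintro ⟨hi, he⟩
    refine ⟨hi, fun Q hQ => ?_⟩
    obtain ⟨x, hx, hx0⟩ := Submodule.exists_mem_ne_zero_of_ne_bot hQ
    obtain ⟨r, hr, hr0⟩ := he x hx0
    exact fun h => hr0 ((Submodule.eq_bot_iff _).1 h _ ⟨Q.smul_mem r hx, hr⟩)

theorem IsEssentialInj.exists_smul {f : M →ₗ[R] N} (h : IsEssentialInj f) {x : N} (hx : x ≠ 0) :
    ∃ r : R, r • x ∈ LinearMap.range f ∧ r • x ≠ 0 :=
  (essential_iff.1 h).2 x hx

theorem IsEssentialInj.disjoint_eq_bot {f : M →ₗ[R] N} (h : IsEssentialInj f) {Q : Submodule R N}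
    (hQ : Q ⊓ LinearMap.range f = ⊥) : Q = ⊥ := by
  by_contra h0
  exact h.essential Q h0 hQ

/-- A map out of an essential extension is injective as soon as it is injective on the base. -/
theorem IsEssentialInj.injective_of_comp {f : M →ₗ[R] N} (h : IsEssentialInj f) {g : N →ₗ[R] P}
    (hg : Function.Injective (g ∘ₗ f)) : Function.Injective g := by
  rw [← LinearMap.ker_eq_bot]
  refine IsEssentialInj.disjoint_eq_bot h ((Submodule.eq_bot_iff _).2 ?_)
  rintro x ⟨hx, y, rfl⟩
  have : y = 0 := hg (by simpa using hx)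
  simp [this]

theorem IsEssentialInj.comp {f : M →ₗ[R] N} {g : N →ₗ[R] P} (hf : IsEssentialInj f)
    (hg : IsEssentialInj g) : IsEssentialInj (g ∘ₗ f) := by
  refine essential_iff.2 ⟨hg.injective.comp hf.injective, fun x hx => ?_⟩
  obtain ⟨r, ⟨y, hy⟩, hr0⟩ := IsEssentialInj.exists_smul hg hx
  have hy0 : y ≠ 0 := fun h => hr0 (by rw [← hy, h, map_zero])
  obtain ⟨s, ⟨z, hz⟩, hs0⟩ := IsEssentialInj.exists_smul hf hy0
  refine ⟨s * r, ⟨z, ?_⟩, ?_⟩
  · rw [LinearMap.comp_apply, hz, map_smul, hy, mul_smul]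
  · rw [mul_smul, ← hy, ← map_smul]
    exact fun h => hs0 (hg.injective (by rw [h, map_zero]))

theorem IsEssentialInj.of_linearEquiv (e : M ≃ₗ[R] N) : IsEssentialInj e.toLinearMap := by
  refine essential_iff.2 ⟨e.injective, fun x hx => ⟨1, ⟨e.symm x, by simp⟩, by simpa using hx⟩⟩

/-- If `N` maps onto a quotient in which `E` stays essential, … : in map form, the left factor of
an essential map. -/
theorem IsEssentialInj.left_of_comp {f : M →ₗ[R] N} {g : N →ₗ[R] P} (hg : Function.Injective g)
    (h : IsEssentialInj (g ∘ₗ f)) : IsEssentialInj f := by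
  refine essential_iff.2 ⟨fun a b hab => h.injective (by simp [hab]), fun x hx => ?_⟩
  obtain ⟨r, ⟨y, hy⟩, h0⟩ := IsEssentialInj.exists_smul h (x := g x) (fun h0 => hx (hg (by simp [h0])))
  rw [LinearMap.comp_apply, ← map_smul] at hy
  refine ⟨r, ⟨y, hg hy⟩, fun h1 => h0 ?_⟩
  rw [← map_smul, h1, map_zero]

/-- The right factor of an essential map. -/
theorem IsEssentialInj.right_of_comp {f : M →ₗ[R] N} {g : N →ₗ[R] P} (hg : Function.Injective g)
    (h : IsEssentialInj (g ∘ₗ f)) : IsEssentialInj g := by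
  refine ⟨hg, fun Q hQ h0 => h.essential Q hQ (le_bot_iff.1 (le_trans ?_ h0.le))⟩
  exact inf_le_inf_left _ (LinearMap.range_comp_le_range f g)

/-- There is a submodule `K` maximal among those disjoint from `A`. -/
theorem exists_complement (A : Submodule R N) :
    ∃ K : Submodule R N, Disjoint A K ∧ ∀ K', K ≤ K' → Disjoint A K' → K' = K := by
  suffices H : ∀ c ⊆ {K : Submodule R N | Disjoint A K}, IsChain (· ≤ ·) c →
      ∀ y ∈ c, sSup c ∈ {K : Submodule R N | Disjoint A K} by
    obtain ⟨K, -, hK⟩ := zorn_le_nonempty₀ {K : Submodule R N | Disjoint A K} (fun c hc hch y hy =>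
      ⟨sSup c, H c hc hch y hy, fun z hz => le_sSup hz⟩) ⊥ disjoint_bot_right
    exact ⟨K, hK.1, fun K' h1 h2 => le_antisymm (hK.2 h2 h1) h1⟩
  · intro c hc hch y hy
    rw [Set.mem_ofPred_eq, disjoint_iff, Submodule.eq_bot_iff]
    rintro x ⟨hxA, hx⟩
    rw [SetLike.mem_coe, Submodule.mem_sSup_of_directed ⟨y, hy⟩ hch.directedOn] at hx
    obtain ⟨K, hKc, hxK⟩ := hx
    exact Submodule.disjoint_def.1 (hc hKc) x hxA hxK

/-- The image of `A` in the quotient by a maximal disjoint submodule is essential. -/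
theorem mkQ_comp_subtype_essential {A K : Submodule R N} (h : Disjoint A K)
    (hmax : ∀ K', K ≤ K' → Disjoint A K' → K' = K) :
    IsEssentialInj (K.mkQ ∘ₗ A.subtype) := by
  refine ⟨?_, fun Q hQ h0 => hQ ?_⟩
  · rw [← LinearMap.ker_eq_bot, Submodule.eq_bot_iff]
    rintro ⟨x, hx⟩ hx0
    rw [LinearMap.mem_ker, LinearMap.comp_apply, Submodule.mkQ_apply,
      Submodule.Quotient.mk_eq_zero] at hx0
    exact Subtype.ext (Submodule.disjoint_def.1 h x hx hx0)
  · have := hmax (Q.comap K.mkQ) (fun x hx => by simp [(Submodule.Quotient.mk_eq_zero K).2 hx])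
      (Submodule.disjoint_def.2 fun x hx hxQ => by
        have : K.mkQ x = 0 := (Submodule.eq_bot_iff _).1 h0 _ ⟨hxQ, ⟨⟨x, hx⟩, rfl⟩⟩
        exact Submodule.disjoint_def.1 h x hx ((Submodule.Quotient.mk_eq_zero K).1 this))
    refine (Submodule.eq_bot_iff _).2 fun q hq => ?_
    obtain ⟨x, rfl⟩ := K.mkQ_surjective q
    have hx : x ∈ Q.comap K.mkQ := hq
    rw [this] at hx
    exact (Submodule.Quotient.mk_eq_zero K).2 hx

/-- `A` is essential in `B` (both submodules of `N`). -/
def EssIn (A B : Submodule R N) : Prop :=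
  A ≤ B ∧ ∀ Q : Submodule R N, Q ≤ B → Q ≠ ⊥ → Q ⊓ A ≠ ⊥

theorem EssIn.refl (A : Submodule R N) : EssIn A A :=
  ⟨le_rfl, fun Q hQ h h0 => h (by rwa [inf_eq_left.2 hQ] at h0)⟩

theorem EssIn.trans {A B C : Submodule R N} (h : EssIn A B) (h' : EssIn B C) : EssIn A C := by
  refine ⟨h.1.trans h'.1, fun Q hQ h0 h1 => h.2 (Q ⊓ B) inf_le_right (h'.2 Q hQ h0) ?_⟩
  rwa [inf_assoc, inf_eq_right.2 h.1]

theorem essIn_range {f : M →ₗ[R] N} (h : IsEssentialInj f) :
    EssIn (LinearMap.range f) (⊤ : Submodule R N) :=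
  ⟨le_top, fun Q _ h0 => h.essential Q h0⟩

theorem EssIn.isEssentialInj {A B : Submodule R N} (h : EssIn A B) :
    IsEssentialInj (Submodule.inclusion h.1) := by
  refine ⟨Submodule.inclusion_injective _, fun Q hQ h0 => ?_⟩
  refine h.2 (Q.map B.subtype) (fun x hx => ?_) ?_ ?_
  · obtain ⟨y, -, rfl⟩ := hx; exact y.2
  · intro h1
    exact hQ (Submodule.map_injective_of_injective B.injective_subtype (by rw [h1, Submodule.map_bot]))
  · rw [Submodule.eq_bot_iff]
    rintro x ⟨⟨y, hy, rfl⟩, hyA⟩
    have : y = 0 := (Submodule.eq_bot_iff _).1 h0 y ⟨hy, ⟨⟨y, hyA⟩, rfl⟩⟩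
    simp [this]

/-- Maximal essential extensions inside an ambient module exist. -/
theorem exists_maximal_essIn (A : Submodule R N) :
    ∃ E : Submodule R N, EssIn A E ∧ ∀ E', E ≤ E' → EssIn E E' → E' = E := by
  suffices H : ∀ c ⊆ {E : Submodule R N | EssIn A E}, IsChain (· ≤ ·) c →
      ∀ y ∈ c, sSup c ∈ {E : Submodule R N | EssIn A E} by
    obtain ⟨E, -, hE⟩ := zorn_le_nonempty₀ {E : Submodule R N | EssIn A E} (fun c hc hch y hy =>
      ⟨sSup c, H c hc hch y hy, fun z hz => le_sSup hz⟩) A (EssIn.refl A)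
    exact ⟨E, hE.1, fun E' h1 h2 => le_antisymm (hE.2 (hE.1.trans h2) h1) h1⟩
  · intro c hc hch y hy
    refine ⟨(hc hy).1.trans (le_sSup hy), fun Q hQ h0 h1 => ?_⟩
    obtain ⟨x, hx, hx0⟩ := Submodule.exists_mem_ne_zero_of_ne_bot h0
    have hx' := hQ hx
    rw [Submodule.mem_sSup_of_directed ⟨y, hy⟩ hch.directedOn] at hx'
    obtain ⟨K, hKc, hxK⟩ := hx'
    refine (hc hKc).2 (R ∙ x) ((Submodule.span_singleton_le_iff_mem x K).2 hxK) (by simpa using hx0) ?_
    exact le_bot_iff.1 (le_trans (inf_le_inf_right _ ((Submodule.span_singleton_le_iff_mem x Q).2 hx))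
      h1.le)

end Essential

section Injective

variable {R : Type u} [CommRing R]
variable {M E I : Type u} [AddCommGroup M] [Module R M] [AddCommGroup E] [Module R E]
  [AddCommGroup I] [Module R I]

theorem baer (hE : Module.Injective R E) : Module.Baer R E :=
  Module.Baer.of_injective hE

theorem injective_of_retraction (hI : Module.Injective R I) (i : E →ₗ[R] I) (p : I →ₗ[R] E)
    (h : p ∘ₗ i = LinearMap.id) : Module.Injective R E where
  out X Y _ _ _ _ f hf g := by
    obtain ⟨k, hk⟩ := hI.out f hf (i ∘ₗ g)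
    refine ⟨p ∘ₗ k, fun x => ?_⟩
    rw [LinearMap.comp_apply, hk, LinearMap.comp_apply, ← LinearMap.comp_apply, h]
    rfl

theorem injective_of_equiv (hI : Module.Injective R I) (e : E ≃ₗ[R] I) : Module.Injective R E :=
  injective_of_retraction hI e.toLinearMap e.symm.toLinearMap (by ext; simp)

theorem injective_of_isCompl (hI : Module.Injective R I) {A B : Submodule R I} (h : IsCompl A B) :
    Module.Injective R A :=
  injective_of_retraction hI A.subtype (Submodule.projectionOnto A B h)
    (LinearMap.ext fun x => Submodule.projectionOnto_apply_left h x)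

/-- An injective submodule is a direct summand. -/
theorem exists_isCompl_of_injective (hE : Module.Injective R E) (i : E →ₗ[R] I)
    (hi : Function.Injective i) : ∃ C : Submodule R I, IsCompl (LinearMap.range i) C := by
  obtain ⟨p, hp⟩ := hE.out i hi LinearMap.id
  refine ⟨LinearMap.ker p, ?_⟩
  constructor
  · rw [Submodule.disjoint_def]
    rintro x ⟨y, rfl⟩ hx
    rw [LinearMap.mem_ker, hp] at hx
    simp only [LinearMap.id_apply] at hx
    simp [hx]
  · rw [codisjoint_iff, Submodule.eq_top_iff']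
    intro x
    refine Submodule.mem_sup.2 ⟨i (p x), ⟨_, rfl⟩, x - i (p x), ?_, by abel⟩
    simp [hp]

theorem exists_isCompl_of_injective_submodule {A : Submodule R I} (hA : Module.Injective R A) :
    ∃ C : Submodule R I, IsCompl A C := by
  simpa using exists_isCompl_of_injective hA A.subtype A.injective_subtype

/-- An essential extension of an injective module is trivial. -/
theorem surjective_of_essential (hE : Module.Injective R E) {f : E →ₗ[R] I}
    (hf : IsEssentialInj f) : Function.Surjective f := by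
  obtain ⟨C, hC⟩ := exists_isCompl_of_injective hE f hf.injective
  have hC0 : C = ⊥ := IsEssentialInj.disjoint_eq_bot hf (by rw [inf_comm, hC.inf_eq_bot])
  rw [← LinearMap.range_eq_top]
  simpa [hC0] using hC.sup_eq_top

/-- A submodule of an injective module without proper essential extensions inside is injective. -/
theorem injective_of_no_essIn (hI : Module.Injective R I) {A : Submodule R I}
    (hA : ∀ B, A ≤ B → EssIn A B → B = A) : Module.Injective R A := by
  obtain ⟨K, hK, hKmax⟩ := exists_complement A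
  have hess := mkQ_comp_subtype_essential hK hKmax
  obtain ⟨h, hh⟩ := hI.out (K.mkQ ∘ₗ A.subtype) hess.injective A.subtype
  have hcomp : h ∘ₗ (K.mkQ ∘ₗ A.subtype) = A.subtype := LinearMap.ext hh
  have hinj : Function.Injective h := IsEssentialInj.injective_of_comp hess (by
    rw [hcomp]; exact A.injective_subtype)
  have hle : A ≤ LinearMap.range h := fun x hx => ⟨_, hh ⟨x, hx⟩⟩
  have hess' : EssIn A (LinearMap.range h) := by
    refine ⟨hle, fun Q hQ hQ0 h0 => hess.essential (Q.comap h) ?_ ?_⟩
    · intro hc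
      obtain ⟨x, hx, hx0⟩ := Submodule.exists_mem_ne_zero_of_ne_bot hQ0
      obtain ⟨y, rfl⟩ := hQ hx
      exact hx0 (by rw [(Submodule.eq_bot_iff _).1 hc y hx, map_zero])
    · rw [Submodule.eq_bot_iff]
      rintro q ⟨hq, a, rfl⟩
      have := (Submodule.eq_bot_iff _).1 h0 _ ⟨hq, (by rw [hh]; exact a.2)⟩
      exact hinj (by rw [this, map_zero])
  have hr := hA _ hle hess'
  refine injective_of_retraction hI A.subtype
    (LinearMap.codRestrict A (h ∘ₗ K.mkQ) fun x => hr ▸ ⟨_, rfl⟩) ?_
  exact LinearMap.ext fun x => Subtype.ext (hh x)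

/-- Inside an injective module, every submodule has an essential injective extension. -/
theorem exists_hull_submodule (hI : Module.Injective R I) (A : Submodule R I) :
    ∃ E : Submodule R I, EssIn A E ∧ Module.Injective R E := by
  obtain ⟨E, hE, hmax⟩ := exists_maximal_essIn A
  exact ⟨E, hE, injective_of_no_essIn hI hmax⟩

variable (R M) in
theorem exists_embedding : ∃ (J : Type u) (_ : AddCommGroup J) (_ : Module R J) (i : M →ₗ[R] J),
    Function.Injective i ∧ Module.Injective R J := by
  obtain ⟨⟨J, hJ, f, hf⟩⟩ := CategoryTheory.EnoughInjectives.presentation (ModuleCat.of R M)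
  exact ⟨J, inferInstance, inferInstance, f.hom, (ModuleCat.mono_iff_injective f).1 hf,
    @Module.injective_module_of_injective_object R J _ _ _ hJ⟩

variable (R M) in
theorem exists_hull : ∃ (E : Type u) (_ : AddCommGroup E) (_ : Module R E) (f : M →ₗ[R] E),
    IsInjectiveHull f := by
  obtain ⟨J, _, _, i, hi, hJ⟩ := exists_embedding R M
  obtain ⟨E, hE, hEinj⟩ := exists_hull_submodule hJ (LinearMap.range i)
  exact ⟨E, inferInstance, inferInstance,
    Submodule.inclusion hE.1 ∘ₗ (LinearEquiv.ofInjective i hi).toLinearMap,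
    ⟨IsEssentialInj.comp (IsEssentialInj.of_linearEquiv _) (EssIn.isEssentialInj hE), hEinj⟩⟩

theorem hull_embeds {f : M →ₗ[R] E} (hf : IsInjectiveHull f) {i : M →ₗ[R] I}
    (hi : Function.Injective i) (hI : Module.Injective R I) :
    ∃ α : E →ₗ[R] I, Function.Injective α ∧ α ∘ₗ f = i := by
  obtain ⟨α, hα⟩ := hI.out f hf.injective i
  have h : α ∘ₗ f = i := LinearMap.ext hα
  exact ⟨α, IsEssentialInj.injective_of_comp hf.toIsEssentialInj (h ▸ hi), h⟩

theorem hull_unique {f : M →ₗ[R] E} (hf : IsInjectiveHull f) {g : M →ₗ[R] I}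
    (hg : IsInjectiveHull g) : ∃ e : E ≃ₗ[R] I, e.toLinearMap ∘ₗ f = g := by
  obtain ⟨α, hα, hαf⟩ := hull_embeds hf hg.injective hg.isInjective
  have hess : IsEssentialInj α := IsEssentialInj.right_of_comp hα (by rw [hαf]; exact hg.toIsEssentialInj)
  exact ⟨LinearEquiv.ofBijective α ⟨hα, surjective_of_essential hf.isInjective hess⟩, hαf⟩

theorem hull_transport {f : M →ₗ[R] E} (hf : IsInjectiveHull f) (e : E ≃ₗ[R] I) :
    IsInjectiveHull (e.toLinearMap ∘ₗ f) :=
  ⟨IsEssentialInj.comp hf.toIsEssentialInj (IsEssentialInj.of_linearEquiv e),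
    injective_of_equiv hf.isInjective e.symm⟩

theorem hull_precomp {N : Type u} [AddCommGroup N] [Module R N] {f : M →ₗ[R] E}
    (hf : IsInjectiveHull f) (e : N ≃ₗ[R] M) : IsInjectiveHull (f ∘ₗ e.toLinearMap) :=
  ⟨IsEssentialInj.comp (IsEssentialInj.of_linearEquiv e) hf.toIsEssentialInj, hf.isInjective⟩

/-- An injective submodule containing the base of an essential extension is everything. -/
theorem eq_top_of_injective_of_range_le {f : M →ₗ[R] E} (hf : IsEssentialInj f)
    {A : Submodule R E} (hA : Module.Injective R A) (hle : LinearMap.range f ≤ A) : A = ⊤ := by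
  obtain ⟨C, hC⟩ := exists_isCompl_of_injective_submodule hA
  have : C = ⊥ := IsEssentialInj.disjoint_eq_bot hf (le_bot_iff.1 (le_trans
    (inf_le_inf_left _ hle) (by rw [inf_comm, hC.inf_eq_bot])))
  simpa [this] using hC.sup_eq_top

/-- The `b`-torsion of a hull of an `R ⧸ b`-module is a hull over `R ⧸ b`. -/
theorem hull_torsionBy (b : Ideal R) [Module (R ⧸ b) M] [IsScalarTower R (R ⧸ b) M]
    {f : M →ₗ[R] E} (hf : IsInjectiveHull f) :
    ∃ g : M →ₗ[R ⧸ b] ↥(LocCoh.torsionBy b E), IsInjectiveHull g ∧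
      ∀ x : M, ((g x : LocCoh.torsionBy b E) : E) = f x := by
  have hkill : ∀ (Y : Type u) [AddCommGroup Y] [Module R Y] [Module (R ⧸ b) Y]
      [IsScalarTower R (R ⧸ b) Y] (φ : Y →ₗ[R] E) (y : Y), φ y ∈ LocCoh.torsionBy b E := by
    intro Y _ _ _ _ φ y
    rw [Submodule.mem_torsionBySet_iff]
    intro r
    rw [← map_smul, ← algebraMap_smul (R ⧸ b) (r : R) y, Ideal.Quotient.algebraMap_eq,
      Ideal.Quotient.eq_zero_iff_mem.2 r.2, zero_smul, map_zero]
  have hfb := hkill M f
  let g : M →ₗ[R ⧸ b] ↥(LocCoh.torsionBy b E) :=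
    { toFun := fun x => ⟨f x, hfb x⟩
      map_add' := fun x y => Subtype.ext (map_add f x y)
      map_smul' := fun c x => by
        obtain ⟨r, rfl⟩ := Ideal.Quotient.mk_surjective c
        refine Subtype.ext ?_
        show f (Ideal.Quotient.mk b r • x) = r • f x
        rw [← Ideal.Quotient.algebraMap_eq, algebraMap_smul, map_smul] }
  refine ⟨g, ⟨essential_iff.2 ⟨fun x y h => hf.injective (congrArg Subtype.val h), fun z hz => ?_⟩,
    ⟨fun X Y _ _ _ _ i hi φ => ?_⟩⟩, fun x => rfl⟩
  · obtain ⟨r, ⟨x, hx⟩, h0⟩ := IsEssentialInj.exists_smul hf.toIsEssentialInj (x := (z : E))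
      fun h => hz (Subtype.ext h)
    exact ⟨Ideal.Quotient.mk b r, ⟨x, Subtype.ext hx⟩, fun h => h0 (congrArg Subtype.val h)⟩
  · letI : Module R X := Module.compHom X (Ideal.Quotient.mk b)
    letI : Module R Y := Module.compHom Y (Ideal.Quotient.mk b)
    haveI : IsScalarTower R (R ⧸ b) X := IsScalarTower.of_algebraMap_smul fun _ _ => rfl
    haveI : IsScalarTower R (R ⧸ b) Y := IsScalarTower.of_algebraMap_smul fun _ _ => rfl
    obtain ⟨k, hk⟩ := hf.isInjective.out (i.restrictScalars R) hi
      ((LocCoh.torsionBy b E).subtype ∘ₗ φ.restrictScalars R)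
    have hky := hkill Y k
    refine ⟨{ toFun := fun y => ⟨k y, hky y⟩
              map_add' := fun y z => Subtype.ext (map_add k y z)
              map_smul' := fun c y => by
                obtain ⟨r, rfl⟩ := Ideal.Quotient.mk_surjective c
                refine Subtype.ext ?_
                show k (Ideal.Quotient.mk b r • y) = r • k y
                rw [← Ideal.Quotient.algebraMap_eq, algebraMap_smul, map_smul] }, fun x => ?_⟩
    exact Subtype.ext (hk x)

end Injective

section Noetherian

variable {R : Type u} [CommRing R] [IsNoetherianRing R]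

/-- Bass–Papp: direct sums of injectives are injective. -/
theorem directSum_injective {ι : Type u} (E : ι → Type u) [∀ i, AddCommGroup (E i)]
    [∀ i, Module R (E i)] (hE : ∀ i, Module.Injective R (E i)) :
    Module.Injective R (DirectSum ι E) := by
  classical
  refine Module.Baer.injective fun a g => ?_
  obtain ⟨s, hs⟩ := Module.Finite.fg_top (R := R) (M := a)
  choose k hk using fun i => baer (hE i) a ((DirectSum.component R ι E i) ∘ₗ g)
  let S : Finset ι := s.biUnion fun x => (g x).support
  refine ⟨∑ i ∈ S, (DirectSum.lof R ι E i) ∘ₗ k i, fun x hx => ?_⟩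
  have hsupp : ∀ y : a, ∀ i, i ∉ S → DirectSum.component R ι E i (g y) = 0 := by
    intro y i hi
    have : y ∈ Submodule.span R (s : Set a) := hs ▸ Submodule.mem_top
    induction this using Submodule.span_induction with
    | mem z hz =>
      by_contra h0
      exact hi (Finset.mem_biUnion.2 ⟨z, hz, DFinsupp.mem_support_iff.2 h0⟩)
    | zero => simp
    | add z w _ _ hz hw => simp [hz, hw]
    | smul r z _ hz => simp [hz]
  refine DirectSum.ext_component R fun j => ?_
  simp only [LinearMap.sum_apply, LinearMap.comp_apply, map_sum, hk _ x hx]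
  by_cases hj : j ∈ S
  · rw [Finset.sum_eq_single j (fun i _ hij => by simp [DirectSum.component.of, hij]) (by simp [hj]),
      DirectSum.component.lof_self]
  · rw [hsupp ⟨x, hx⟩ j hj]
    exact Finset.sum_eq_zero fun i hi => by simp [DirectSum.component.of, show i ≠ j from fun h => hj (h ▸ hi)]

/-- Finite sums / binary products are covered by `Module.Injective.pi`; the `J`-power torsion
submodule of an injective is injective. -/
theorem powerTorsion_injective {I : Type u} [AddCommGroup I] [Module R I]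
    (hI : Module.Injective R I) (J : Ideal R) (G : Submodule R I)
    (hG : ∀ x, x ∈ G ↔ ∃ n : ℕ, ∀ r ∈ J ^ n, r • x = 0) : Module.Injective R G := by
  refine Module.Baer.injective fun a g => ?_
  -- a uniform exponent for the finitely generated image
  obtain ⟨n, hn⟩ : ∃ n : ℕ, ∀ y : a, ∀ r ∈ J ^ n, r • g y = 0 := by
    obtain ⟨s, hs⟩ := Module.Finite.fg_top (R := R) (M := a)
    choose e he using fun y : a => (hG _).1 (g y).2
    refine ⟨s.sup e, fun y r hr => ?_⟩
    have : y ∈ Submodule.span R (s : Set a) := hs ▸ Submodule.mem_top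
    induction this using Submodule.span_induction with
    | mem z hz =>
      exact Subtype.ext (he z r (Ideal.pow_le_pow_right (Finset.le_sup hz) hr))
    | zero => simp
    | add z w _ _ hz hw => simp [hz, hw]
    | smul c z _ hz => simp [smul_comm r c, hz]
  obtain ⟨k, hk⟩ := J.exists_pow_inf_eq_pow_smul (M := R) a
  have hkey : ∀ y : a, (y : R) ∈ J ^ (n + k) → g y = 0 := by
    intro y hy
    have h1 : (y : R) ∈ J ^ n • (J ^ k • (⊤ : Submodule R R) ⊓ a) := by
      have := hk (n + k) (by omega)
      simp only [Nat.add_sub_cancel] at this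
      rw [← this]
      exact ⟨by simpa using hy, y.2⟩
    have h2 : (y : R) ∈ J ^ n • a := Submodule.smul_mono le_rfl inf_le_right h1
    have h3 : (y : R) ∈ Submodule.map a.subtype (J ^ n • (⊤ : Submodule R a)) := by
      rwa [Submodule.map_smul'', Submodule.map_top, Submodule.range_subtype]
    obtain ⟨z, hz, hzy⟩ := h3
    obtain rfl : z = y := Subtype.ext hzy
    have : J ^ n • (⊤ : Submodule R a) ≤ LinearMap.ker g :=
      Submodule.smul_le.2 fun r hr w _ => by simp [hn w r hr]
    exact this hz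
  -- extend to `a + J^(n+k)` by zero, then to `R`
  let q := (J ^ (n + k) : Ideal R).mkQ
  have hker : LinearMap.ker (q ∘ₗ a.subtype) ≤ LinearMap.ker (G.subtype ∘ₗ g) := by
    intro y hy
    simp only [LinearMap.mem_ker, LinearMap.comp_apply, q, Submodule.mkQ_apply,
      Submodule.Quotient.mk_eq_zero] at hy
    simp [hkey y hy]
  let g' := (LinearMap.ker (q ∘ₗ a.subtype)).liftQ (G.subtype ∘ₗ g) hker
  let emb := (LinearMap.ker (q ∘ₗ a.subtype)).liftQ (q ∘ₗ a.subtype) le_rfl
  have hemb : Function.Injective emb := LinearMap.ker_eq_bot.1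
    (Submodule.ker_liftQ_eq_bot _ _ _ le_rfl)
  obtain ⟨h, hh⟩ := hI.out emb hemb g'
  have hmem : ∀ r, h (q r) ∈ G := fun r => (hG _).2 ⟨n + k, fun s hs => by
    rw [← map_smul, ← map_smul]
    have : q (s • r) = 0 := (Submodule.Quotient.mk_eq_zero _).2
      (Ideal.mul_mem_right r _ hs)
    rw [this, map_zero]⟩
  refine ⟨LinearMap.codRestrict G (h ∘ₗ q) hmem, fun x hx => Subtype.ext ?_⟩
  exact hh (Submodule.Quotient.mk ⟨x, hx⟩)

end Noetherian

end GrothMatlis
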