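import Groth.Agent.Matlis.Duality
import Mathlib.RingTheory.AdicCompletion.Completeness
import Mathlib.LinearAlgebra.TensorProduct.Basic

/-!
# Criteria for being an injective hull of a residue field

Helper library (no milestone statements here).
-/

universe u

namespace GrothMatlis

open InjHull IsLocalRing

section General

variable {R : Type u} [CommRing R] {X : Type u} [AddCommGroup X] [Module R X]

/-- A map from a simple module whose image is the whole socle of a power torsion module is
essential. -/
theorem essential_of_socle_le {I : Ideal R} {N : Type u} [AddCommGroup N] [Module R N]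
    {φ : N →ₗ[R] X} (hφ : Function.Injective φ) (hX : LocCoh.IsPowerTorsion I X)
    (hsoc : LocCoh.torsionBy I X ≤ LinearMap.range φ) : IsEssentialInj φ := by
  refine essential_iff.2 ⟨hφ, fun x hx => ?_⟩
  obtain ⟨n, hn⟩ := hX x
  obtain ⟨r, hr0, hr⟩ := exists_smul_torsion n hx hn
  exact ⟨r, hsoc ((Submodule.mem_torsionBySet_iff _ _).2 fun a => hr a a.2), hr0⟩

end General

variable {R : Type u} [CommRing R] [IsLocalRing R]
variable {X : Type u} [AddCommGroup X] [Module R X]

theorem isSimpleModule_residueField (R : Type u) [CommRing R] [IsLocalRing R] :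
    IsSimpleModule R (ResidueField R) :=
  isSimpleModule_iff_quot_maximal.2 ⟨maximalIdeal R, inferInstance, ⟨LinearEquiv.refl R _⟩⟩

/-- A power torsion module with simple socle is an essential extension of the residue field. -/
theorem exists_essential_of_simple (hX : LocCoh.IsPowerTorsion (maximalIdeal R) X)
    (hs : IsSimpleModule R (ResidueField R →ₗ[R] X)) :
    ∃ φ : ResidueField R →ₗ[R] X, IsEssentialInj φ := by
  haveI := isSimpleModule_residueField R
  haveI := IsSimpleModule.nontrivial R (ResidueField R →ₗ[R] X)
  obtain ⟨φ, hφ⟩ := exists_ne (0 : ResidueField R →ₗ[R] X)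
  refine ⟨φ, essential_of_socle_le ((LinearMap.injective_or_eq_zero φ).resolve_right hφ) hX
    fun x hx => ?_⟩
  let ψ : ResidueField R →ₗ[R] X := (maximalIdeal R).liftQ (LinearMap.toSpanSingleton R X x)
    fun r hr => by simpa using (Submodule.mem_torsionBySet_iff _ _).1 hx ⟨r, hr⟩
  obtain ⟨c, hc⟩ := Submodule.mem_span_singleton.1
    (show ψ ∈ R ∙ φ from (IsSimpleModule.span_singleton_eq_top R hφ).symm ▸ Submodule.mem_top)
  have h1 : ψ (Submodule.Quotient.mk 1) = x := by
    show LinearMap.toSpanSingleton R X x 1 = x
    simp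
  rw [← h1, ← hc]
  exact Submodule.smul_mem _ c (LinearMap.mem_range_self φ _)

theorem hull_iff [IsNoetherianRing R] :
    (∃ f : ResidueField R →ₗ[R] X, IsInjectiveHull f) ↔
      (Module.Injective R X ∧ LocCoh.IsPowerTorsion (maximalIdeal R) X ∧
        IsSimpleModule R (ResidueField R →ₗ[R] X)) := by
  constructor
  · rintro ⟨f, hf⟩
    haveI := isSimpleModule_residueField R
    exact ⟨hf.isInjective, hull_isPowerTorsion hf,
      Module.length_eq_one_iff.1 (length_dual_simple hf (ResidueField R))⟩
  · rintro ⟨h1, h2, h3⟩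
    obtain ⟨φ, hφ⟩ := exists_essential_of_simple h2 h3
    exact ⟨φ, hφ, h1⟩

/-- A power torsion module with simple socle and enough torsion is a hull. -/
theorem hull_of_length_cofinal [IsNoetherianRing R] (hX : LocCoh.IsPowerTorsion (maximalIdeal R) X)
    (hs : IsSimpleModule R (ResidueField R →ₗ[R] X)) (a : ℕ → Ideal R)
    (hcof : ∀ n : ℕ, ∃ N : ℕ, maximalIdeal R ^ N ≤ a n)
    (hcof' : ∀ N : ℕ, ∃ n : ℕ, a n ≤ maximalIdeal R ^ N)
    (hlen : ∀ n : ℕ, Module.length R (R ⧸ a n) = Module.length R ((R ⧸ a n) →ₗ[R] X)) :
    ∃ φ : ResidueField R →ₗ[R] X, IsInjectiveHull φ := by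
  obtain ⟨φ, hφ⟩ := exists_essential_of_simple hX hs
  obtain ⟨E, _, _, f, hf⟩ := exists_hull R (ResidueField R)
  obtain ⟨g, hg⟩ := hf.isInjective.out φ hφ.injective f
  have hginj : Function.Injective g :=
    IsEssentialInj.injective_of_comp hφ (by rw [show g ∘ₗ φ = f from LinearMap.ext hg]; exact hf.injective)
  have hsur : Function.Surjective g := fun e => by
    obtain ⟨N, hN⟩ := mem_torsion_pow hf e
    obtain ⟨n, hn⟩ := hcof' N
    obtain ⟨K, hK⟩ := hcof n
    have hfl : IsFiniteLength R (R ⧸ a n) :=
      (isFiniteLength_quotient_pow K).of_surjective (f := Submodule.factor hK)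
        (Submodule.factor_surjective _)
    let C : ((R ⧸ a n) →ₗ[R] X) →ₗ[R] ((R ⧸ a n) →ₗ[R] E) := LinearMap.compRight R g
    have hC : Function.Injective C := fun u v huv =>
      LinearMap.ext fun q => hginj (LinearMap.congr_fun huv q)
    obtain ⟨u, hu⟩ := surjective_of_length_le hC (by rw [length_dual hf hfl, hlen n])
      (by rw [length_dual hf hfl]; exact Module.length_ne_top_iff.2 hfl)
      ((dualQuotientEquiv (a n)).symm
        ⟨e, Submodule.torsionBySet_le_torsionBySet_of_subset hn hN⟩)
    refine ⟨u 1, ?_⟩
    have := congrArg (dualQuotientEquiv (E := E) (a n)) hu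
    rw [LinearEquiv.apply_symm_apply] at this
    exact congrArg Subtype.val this
  exact ⟨φ, hφ, injective_of_equiv hf.isInjective (LinearEquiv.ofBijective g ⟨hginj, hsur⟩)⟩

/-- A power torsion module is its own completion. -/
theorem completion_tensor_bijective [IsNoetherianRing R]
    (hX : LocCoh.IsPowerTorsion (maximalIdeal R) X) :
    Function.Bijective (TensorProduct.mk R (AdicCompletion (maximalIdeal R) R) X 1) := by
  set m := maximalIdeal R
  constructor
  · rw [← LinearMap.ker_eq_bot, Submodule.eq_bot_iff]
    intro x hx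
    obtain ⟨E, _, _, f, hf⟩ := exists_hull R (ResidueField R)
    obtain ⟨e⟩ := end_equiv_completion hf
    refine applyₗ_injective hf X (LinearMap.ext fun φ => ?_)
    let L : TensorProduct R (AdicCompletion m R) X →ₗ[R] E :=
      TensorProduct.lift ((LinearMap.lcomp R E φ) ∘ₗ e.symm.toLinearMap)
    have h := congrArg L (LinearMap.mem_ker.1 hx)
    simp [L] at h
    simpa using h
  · intro z
    induction z using TensorProduct.induction_on with
    | zero => exact ⟨0, map_zero _⟩
    | add z w hz hw =>
      obtain ⟨x, rfl⟩ := hz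
      obtain ⟨y, rfl⟩ := hw
      exact ⟨x + y, map_add _ _ _⟩
    | tmul c x =>
      obtain ⟨n, hn⟩ := hX x
      obtain ⟨r, hr⟩ := Submodule.Quotient.mk_surjective _ (c.val n)
      have hker : c - AdicCompletion.of m R r ∈ m ^ n • (⊤ : Submodule R (AdicCompletion m R)) := by
        rw [AdicCompletion.pow_smul_top_eq_ker_eval m.fg_of_isNoetherianRing, LinearMap.mem_ker,
          map_sub, AdicCompletion.eval_of, AdicCompletion.eval_apply, ← hr, Submodule.mkQ_apply,
          sub_self]
      refine ⟨r • x, ?_⟩
      have h0 : (c - AdicCompletion.of m R r) ⊗ₜ[R] x = 0 := by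
        generalize c - AdicCompletion.of m R r = d at hker
        induction hker using Submodule.smul_induction_on' with
        | smul a ha b _ => rw [TensorProduct.smul_tmul, hn a ha, TensorProduct.tmul_zero]
        | add u _ v _ hu hv => rw [TensorProduct.add_tmul, hu, hv, add_zero]
      rw [TensorProduct.sub_tmul, sub_eq_zero] at h0
      rw [h0, TensorProduct.mk_apply, TensorProduct.tmul_smul]
      have : AdicCompletion.of m R r = r • (1 : AdicCompletion m R) := by
        rw [← Algebra.algebraMap_eq_smul_one]
        rfl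
      rw [this, TensorProduct.smul_tmul']

end GrothMatlis
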