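import Groth.Agent.Matlis.Criterion
import Mathlib.Algebra.Category.ModuleCat.ChangeOfRings
import Mathlib.RingTheory.Ideal.GoingUp
import Mathlib.RingTheory.Artinian.Module
import Mathlib.RingTheory.Finiteness.Ideal

/-!
# Coextension of the hull along a finite ring map

For a finite `A → B` with `A` local, `Hom_A(B, E)` is the direct sum over the maximal ideals of `B`
of the injective hulls of the residue fields.  Helper library (no milestone statements here).
-/

universe u

open CategoryTheory

namespace GrothMatlis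

open InjHull IsLocalRing

/-- The `I`-power torsion submodule. -/
def ptor {R : Type u} [CommRing R] (I : Ideal R) (M : Type u) [AddCommGroup M] [Module R M] :
    Submodule R M where
  carrier := {x | ∃ n : ℕ, ∀ r ∈ I ^ n, r • x = 0}
  zero_mem' := ⟨0, fun r _ => smul_zero r⟩
  add_mem' := by
    rintro x y ⟨k, hk⟩ ⟨l, hl⟩
    refine ⟨k + l, fun r hr => ?_⟩
    rw [smul_add, hk r (Ideal.pow_le_pow_right (Nat.le_add_right k l) hr),
      hl r (Ideal.pow_le_pow_right (Nat.le_add_left l k) hr), add_zero]
  smul_mem' := by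
    rintro c x ⟨k, hk⟩
    exact ⟨k, fun r hr => by rw [smul_comm, hk r hr, smul_zero]⟩

theorem mem_ptor {R : Type u} [CommRing R] {I : Ideal R} {M : Type u} [AddCommGroup M] [Module R M]
    {x : M} : x ∈ ptor I M ↔ ∃ n : ℕ, ∀ r ∈ I ^ n, r • x = 0 := Iff.rfl

theorem ptor_eq_iSup {R : Type u} [CommRing R] (I : Ideal R) (M : Type u) [AddCommGroup M] [Module R M] :
    ptor I M = ⨆ n : ℕ, Submodule.torsionBySet R M ((I ^ n : Ideal R) : Set R) := by
  ext x
  rw [Submodule.mem_iSup_of_directed]
  · simp only [Submodule.mem_torsionBySet_iff]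
    exact ⟨fun ⟨n, h⟩ => ⟨n, fun r => h r.1 r.2⟩, fun ⟨n, h⟩ => ⟨n, fun r hr => h ⟨r, hr⟩⟩⟩
  · refine Monotone.directed_le fun a b hab => ?_
    exact Submodule.torsionBySet_le_torsionBySet_of_subset (Ideal.pow_le_pow_right hab)

theorem exists_hull_field (k : Type u) [Field k] :
    ∃ f : IsLocalRing.ResidueField k →ₗ[k] k, IsInjectiveHull f := by
  let e : k →ₗ[k] IsLocalRing.ResidueField k := Algebra.linearMap k _
  have he : Function.Bijective e := ⟨(IsLocalRing.residue k).injective, IsLocalRing.residue_surjective⟩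
  refine ⟨(LinearEquiv.ofBijective e he).symm.toLinearMap, IsEssentialInj.of_linearEquiv _,
    Module.Baer.injective fun a g => ?_⟩
  rcases Ideal.eq_bot_or_top a with rfl | rfl
  · exact ⟨0, fun x hx => by
      obtain rfl : x = 0 := hx
      simp only [LinearMap.zero_apply]
      exact (map_zero g).symm⟩
  · exact ⟨g ∘ₗ Submodule.topEquiv.symm.toLinearMap, fun x hx => rfl⟩

variable {A B : Type u} [CommRing A] [CommRing B] [Algebra A B]

variable (A B) in
/-- The coextension `Hom_A(B, E)` as an object of `ModuleCat B`. -/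
noncomputable abbrev Coext (E : Type u) [AddCommGroup E] [Module A E] : ModuleCat.{u} B :=
  (ModuleCat.coextendScalars (algebraMap A B)).obj (ModuleCat.of A E)

variable {E : Type u} [AddCommGroup E] [Module A E]

/-- An element of the coextension as an `A`-linear map. -/
noncomputable def coextToHom (φ : Coext A B E) : B →ₗ[A] E where
  toFun b := φ b
  map_add' x y := map_add (ModuleCat.CoextendScalars.equiv (algebraMap A B) (ModuleCat.of A E) φ) x y
  map_smul' r x := by
    rw [Algebra.smul_def]
    exact (ModuleCat.CoextendScalars.equiv (algebraMap A B) (ModuleCat.of A E) φ).map_smul r x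

/-- An `A`-linear map as an element of the coextension. -/
noncomputable def coextOfHom (φ : B →ₗ[A] E) : Coext A B E :=
  (ModuleCat.CoextendScalars.equiv (algebraMap A B) (ModuleCat.of A E)).symm
    { toFun := fun b : B => φ b
      map_add' := fun x y : B => map_add φ x y
      map_smul' := fun r (x : B) => by
        show φ (algebraMap A B r * x) = r • φ x
        rw [← Algebra.smul_def, map_smul] }

@[simp] theorem coextToHom_ofHom (φ : B →ₗ[A] E) : coextToHom (coextOfHom φ) = φ := rfl

theorem coextToHom_injective : Function.Injective (coextToHom : Coext A B E → B →ₗ[A] E) := by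
  intro φ ψ h
  apply ModuleCat.CoextendScalars.ext
  exact LinearMap.ext fun b => LinearMap.congr_fun h b

@[simp] theorem coextToHom_smul (b : B) (φ : Coext A B E) (x : B) :
    coextToHom (b • φ) x = coextToHom φ (x * b) := rfl

@[simp] theorem coextToHom_zero : coextToHom (0 : Coext A B E) = 0 := rfl

theorem coext_injective (hE : Module.Injective A E) : Module.Injective B (Coext A B E) := by
  haveI : Injective (ModuleCat.of A E) := @Module.injective_object_of_injective_module A E _ _ _ hE
  haveI : Injective (Coext A B E) :=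
    (ModuleCat.restrictCoextendScalarsAdj.{u} (algebraMap A B)).map_injective _ inferInstance
  exact @Module.injective_module_of_injective_object B (Coext A B E) _ _ _
    (show Injective (ModuleCat.of B (Coext A B E)) from this)

variable [IsLocalRing A]
variable {f : IsLocalRing.ResidueField A →ₗ[A] E}

theorem comap_maximal [Module.Finite A B] (n : Ideal B) [n.IsMaximal] :
    n.comap (algebraMap A B) = maximalIdeal A := by
  haveI : Algebra.IsIntegral A B := Algebra.IsIntegral.of_finite A B
  exact eq_maximalIdeal (Ideal.isMaximal_comap_of_isIntegral_of_isMaximal n)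

theorem isFiniteLength_quotient_maximal [Module.Finite A B] (n : Ideal B) [n.IsMaximal] :
    IsFiniteLength A (B ⧸ n) := by
  have hkill : Module.IsTorsionBySet A (B ⧸ n) (maximalIdeal A) := by
    rintro x ⟨r, hr⟩
    obtain ⟨y, rfl⟩ := Ideal.Quotient.mk_surjective x
    show r • Ideal.Quotient.mk n y = 0
    rw [Algebra.smul_def, IsScalarTower.algebraMap_apply A B (B ⧸ n), Ideal.Quotient.algebraMap_eq,
      Ideal.Quotient.eq_zero_iff_mem.2 (by rw [← Ideal.mem_comap, comap_maximal n]; exact hr),
      zero_mul]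
  letI := hkill.module
  letI : Field (A ⧸ maximalIdeal A) := Ideal.Quotient.field (maximalIdeal A)
  haveI : IsScalarTower A (A ⧸ maximalIdeal A) (B ⧸ n) := hkill.isScalarTower
  haveI : Module.Finite (A ⧸ maximalIdeal A) (B ⧸ n) := Module.Finite.of_restrictScalars_finite A _ _
  rw [← Module.length_ne_top_iff, Module.length_eq_of_surjective (R := A ⧸ maximalIdeal A) (S := A)
    Ideal.Quotient.mk_surjective]
  exact Module.length_ne_top

theorem exists_hull_ptor [IsNoetherianRing B] (hf : IsInjectiveHull f) (n : Ideal B) [n.IsMaximal]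
    (hfl : IsFiniteLength A (B ⧸ n)) :
    ∃ g : (B ⧸ n) →ₗ[B] ptor n (Coext A B E), IsInjectiveHull g := by
  obtain ⟨lam, hlam⟩ := exists_dual_ne_zero hf (x := (1 : B ⧸ n)) one_ne_zero
  let φ₀ : Coext A B E := coextOfHom (lam ∘ₗ (Ideal.Quotient.mkₐ A n).toLinearMap)
  have hφ₀ : ∀ b x : B, coextToHom (b • φ₀) x = lam (Ideal.Quotient.mk n (x * b)) := fun b x => rfl
  have hkill : ∀ b ∈ n, b • φ₀ = 0 := fun b hb => coextToHom_injective (LinearMap.ext fun x => by
    rw [hφ₀, Ideal.Quotient.eq_zero_iff_mem.2 (Ideal.mul_mem_left n x hb), map_zero,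
      coextToHom_zero, LinearMap.zero_apply])
  let g₀ : (B ⧸ n) →ₗ[B] Coext A B E :=
    Submodule.liftQ n (LinearMap.toSpanSingleton B (Coext A B E) φ₀) fun b hb => by
      simpa using hkill b hb
  have hg₀ : Function.Injective g₀ := by
    rw [← LinearMap.ker_eq_bot]
    refine Submodule.ker_liftQ_eq_bot _ _ _ fun b hb => ?_
    by_contra hbn
    obtain ⟨y, i, hi, h1⟩ := Ideal.IsMaximal.exists_inv ‹_› hbn
    refine hlam ?_
    have hb0 : b • φ₀ = 0 := by simpa using LinearMap.mem_ker.1 hb
    have h2 : lam (Ideal.Quotient.mk n (y * b)) = 0 := by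
      rw [← hφ₀, hb0, coextToHom_zero, LinearMap.zero_apply]
    have h3 : Ideal.Quotient.mk n (y * b) = 1 := by
      rw [← map_one (Ideal.Quotient.mk n), ← h1, map_add, Ideal.Quotient.eq_zero_iff_mem.2 hi,
        add_zero]
    rwa [h3] at h2
  -- the socle at `n` is the image of `g₀`
  have hsoc : LocCoh.torsionBy n (Coext A B E) ≤ LinearMap.range g₀ := by
    intro φ hφ
    let K := n.restrictScalars A
    let ψ : (B ⧸ n) →ₗ[A] E :=
      (K.liftQ (coextToHom φ) fun x hx => by
        have : x • φ = 0 := (Submodule.mem_torsionBySet_iff _ _).1 hφ ⟨x, hx⟩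
        have h := congrArg (fun t => coextToHom t 1) this
        simpa using h) ∘ₗ (Submodule.Quotient.restrictScalarsEquiv A n).symm.toLinearMap
    let c : (B ⧸ n) →ₗ[A] ((B ⧸ n) →ₗ[A] E) :=
      LinearMap.compRight A lam ∘ₗ LinearMap.mul A (B ⧸ n)
    have hcinj : Function.Injective c := by
      letI : Field (B ⧸ n) := Ideal.Quotient.field n
      rw [← LinearMap.ker_eq_bot, Submodule.eq_bot_iff]
      intro q hq
      by_contra hq0
      refine hlam ?_
      have := LinearMap.congr_fun (LinearMap.mem_ker.1 hq) q⁻¹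
      simpa [c, mul_inv_cancel₀ hq0] using this
    obtain ⟨q, hq⟩ := surjective_of_length_le hcinj (length_dual hf hfl).le
      (by rw [length_dual hf hfl]; exact Module.length_ne_top_iff.2 hfl) ψ
    refine ⟨q, coextToHom_injective (LinearMap.ext fun x => ?_)⟩
    obtain ⟨b, rfl⟩ := Ideal.Quotient.mk_surjective q
    show coextToHom (LinearMap.toSpanSingleton B (Coext A B E) φ₀ b) x = coextToHom φ x
    rw [LinearMap.toSpanSingleton_apply, hφ₀]
    have h := LinearMap.congr_fun hq (Ideal.Quotient.mk n x)
    calc lam (Ideal.Quotient.mk n (x * b)) = c (Ideal.Quotient.mk n b) (Ideal.Quotient.mk n x) := by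
          simp [c, mul_comm]
      _ = ψ (Ideal.Quotient.mk n x) := h
      _ = coextToHom φ x := rfl
  have hmem : ∀ q, g₀ q ∈ ptor n (Coext A B E) := fun q => ⟨1, fun r hr => by
    obtain ⟨b, rfl⟩ := Ideal.Quotient.mk_surjective q
    rw [← map_smul]
    have : r • Ideal.Quotient.mk n b = 0 := by
      rw [Algebra.smul_def, Ideal.Quotient.algebraMap_eq,
        Ideal.Quotient.eq_zero_iff_mem.2 (by simpa using hr), zero_mul]
    rw [this, map_zero]⟩
  refine ⟨g₀.codRestrict _ hmem, ⟨essential_of_socle_le (I := n)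
    (fun a b h => hg₀ (congrArg Subtype.val h)) (fun x => ?_) ?_,
    powerTorsion_injective (coext_injective hf.isInjective) n _ fun x => Iff.rfl⟩⟩
  · obtain ⟨k, hk⟩ := x.2
    exact ⟨k, fun r hr => Subtype.ext (hk r hr)⟩
  · intro x hx
    obtain ⟨q, hq⟩ := hsoc (x := (x : Coext A B E)) ((Submodule.mem_torsionBySet_iff _ _).2 fun r =>
      congrArg Subtype.val ((Submodule.mem_torsionBySet_iff _ _).1 hx r))
    exact ⟨q, Subtype.ext hq⟩

theorem finite_maximalSpectrum (A B : Type u) [CommRing A] [CommRing B] [Algebra A B]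
    [IsLocalRing A] [Module.Finite A B] : Finite (MaximalSpectrum B) := by
  let J := (maximalIdeal A).map (algebraMap A B)
  letI : Field (A ⧸ maximalIdeal A) := Ideal.Quotient.field (maximalIdeal A)
  haveI : Module.Finite (A ⧸ maximalIdeal A) (B ⧸ J) :=
    Module.Finite.of_restrictScalars_finite A _ _
  haveI : IsArtinianRing (B ⧸ J) := .of_finite (A ⧸ maximalIdeal A) _
  have hle : ∀ n : MaximalSpectrum B, J ≤ n.asIdeal := fun n => by
    haveI : Algebra.IsIntegral A B := Algebra.IsIntegral.of_finite A B
    rw [Ideal.map_le_iff_le_comap]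
    exact (eq_maximalIdeal (Ideal.isMaximal_comap_of_isIntegral_of_isMaximal (R := A) n.asIdeal)).ge
  refine Finite.of_injective (fun n : MaximalSpectrum B => (⟨n.asIdeal.map (Ideal.Quotient.mk J),
    Ideal.IsMaximal.map_of_surjective_of_ker_le Ideal.Quotient.mk_surjective
      (by rw [Ideal.mk_ker]; exact hle n)⟩ : MaximalSpectrum (B ⧸ J))) fun a b h => ?_
  have h' := congrArg (fun t : MaximalSpectrum (B ⧸ J) => t.asIdeal.comap (Ideal.Quotient.mk J)) h
  simp only [Ideal.comap_map_of_surjective _ Ideal.Quotient.mk_surjective,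
    ← RingHom.ker_eq_comap_bot, Ideal.mk_ker, sup_eq_left.2 (hle a), sup_eq_left.2 (hle b)] at h'
  exact MaximalSpectrum.ext h'

theorem ptor_decomposition [IsNoetherianRing A] [Module.Finite A B] [IsNoetherianRing B] (hf : IsInjectiveHull f) :
    iSupIndep (fun n : MaximalSpectrum B => ptor n.asIdeal (Coext A B E)) ∧
      (⨆ n : MaximalSpectrum B, ptor n.asIdeal (Coext A B E)) = ⊤ := by
  classical
  haveI := finite_maximalSpectrum A B
  cases nonempty_fintype (MaximalSpectrum B)
  have hpair : ∀ i j : MaximalSpectrum B, i ≠ j → i.asIdeal ⊔ j.asIdeal = ⊤ := fun i j h =>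
    i.isMaximal.coprime_of_ne j.isMaximal fun h' => h (MaximalSpectrum.ext h')
  refine ⟨fun i => ?_, ?_⟩
  · let s := Finset.univ.filter (· ≠ i)
    let q : Ideal B := ⨅ j ∈ s, j.asIdeal
    have hco : i.asIdeal ⊔ q = ⊤ :=
      Ideal.sup_iInf_eq_top fun j hj => hpair i j (Ne.symm (by simpa [s] using hj))
    show Disjoint (ptor i.asIdeal (Coext A B E)) (⨆ j, ⨆ (_ : j ≠ i), ptor j.asIdeal (Coext A B E))
    refine Disjoint.mono_right (show _ ≤ ptor q (Coext A B E) from ?_) (Submodule.disjoint_def.2 ?_)
    · refine iSup₂_le fun j hj => ?_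
      rintro x ⟨k, hk⟩
      exact ⟨k, fun r hr => hk r (Ideal.pow_right_mono
        ((iInf_le _ j).trans (iInf_le _ (by simpa [s] using hj))) k hr)⟩
    · rintro x ⟨k, hk⟩ ⟨l, hl⟩
      obtain ⟨u, hu, v, hv, huv⟩ := Submodule.mem_sup.1
        ((Ideal.eq_top_iff_one _).1 (Ideal.pow_sup_pow_eq_top (m := k) (n := l) hco))
      rw [← one_smul B x, ← huv, add_smul, hk u hu, hl v hv, add_zero]
  · rw [Submodule.eq_top_iff']
    intro φ
    have hfg : (LinearMap.range (coextToHom φ)).FG := Module.Finite.iff_fg.1 inferInstance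
    obtain ⟨N, hN⟩ : ∃ N, ∀ a ∈ maximalIdeal A ^ N, ∀ y ∈ LinearMap.range (coextToHom φ),
        a • y = 0 := by
      obtain ⟨s, hs⟩ := hfg
      choose e he using hull_isPowerTorsion hf
      refine ⟨s.sup e, fun a ha y hy => ?_⟩
      rw [← hs] at hy
      induction hy using Submodule.span_induction with
      | mem z hz => exact he z a (Ideal.pow_le_pow_right (Finset.le_sup hz) ha)
      | zero => exact smul_zero a
      | add z w _ _ hz hw => rw [smul_add, hz, hw, add_zero]
      | smul c z _ hz => rw [smul_comm, hz, smul_zero]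
    let J := ((maximalIdeal A) ^ N).map (algebraMap A B)
    have hJ : ∀ r ∈ J, r • φ = 0 := by
      intro r hr
      refine Submodule.span_induction (fun z hz => ?_) (zero_smul B φ)
        (fun z w _ _ hz hw => by rw [add_smul, hz, hw, add_zero])
        (fun c z _ hz => by rw [smul_eq_mul, mul_smul, hz, smul_zero]) hr
      obtain ⟨a, ha, rfl⟩ := hz
      refine coextToHom_injective (LinearMap.ext fun x => ?_)
      rw [coextToHom_smul, coextToHom_zero, LinearMap.zero_apply, mul_comm, ← Algebra.smul_def,
        map_smul]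
      exact hN a ha _ (LinearMap.mem_range_self _ x)
    have hrad : (⨅ n : MaximalSpectrum B, n.asIdeal) ≤ J.radical := by
      rw [Ideal.radical_eq_sInf]
      refine le_sInf fun P hP => ?_
      haveI := hP.2
      have hmP : maximalIdeal A ≤ P.comap (algebraMap A B) := by
        have hcp : (P.comap (algebraMap A B)).IsPrime := Ideal.comap_isPrime _ _
        refine (Ideal.IsPrime.pow_le_iff ?_).1 (Ideal.map_le_iff_le_comap.1 hP.1)
        intro h0
        have hJtop : J = ⊤ := by simp [J, h0, Ideal.map_top]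
        exact hP.2.ne_top (top_le_iff.1 (hJtop ▸ hP.1))
      haveI : Algebra.IsIntegral A B := Algebra.IsIntegral.of_finite A B
      have hcm : (P.comap (algebraMap A B)).IsMaximal := by
        rw [← (maximalIdeal.isMaximal A).eq_of_le (Ideal.comap_isPrime _ _).ne_top hmP]
        infer_instance
      exact iInf_le (fun n : MaximalSpectrum B => n.asIdeal)
        ⟨P, Ideal.isMaximal_of_isIntegral_of_isMaximal_comap P hcm⟩
    obtain ⟨k, hk⟩ := Ideal.exists_pow_le_of_le_radical_of_fg hrad
      (IsNoetherian.noetherian _)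
    have hp : ((Finset.univ : Finset (MaximalSpectrum B)) : Set _).Pairwise
        fun i j : MaximalSpectrum B => i.asIdeal ^ k ⊔ j.asIdeal ^ k = ⊤ :=
      fun i _ j _ h => Ideal.pow_sup_pow_eq_top (hpair i j h)
    have hmem : φ ∈ Submodule.torsionBySet B (Coext A B E)
        ↑(⨅ i ∈ (Finset.univ : Finset (MaximalSpectrum B)), i.asIdeal ^ k) := by
      rw [Submodule.mem_torsionBySet_iff]
      rintro ⟨r, hr⟩
      refine hJ r (hk ?_)
      rw [← Ideal.prod_eq_iInf_of_pairwise_isCoprime (fun i hi j hj h =>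
        Ideal.isCoprime_iff_sup_eq.2 (hp hi hj h)), Finset.prod_pow] at hr
      exact Ideal.pow_right_mono (le_iInf fun i =>
        Ideal.le_of_dvd (Finset.dvd_prod_of_mem _ (Finset.mem_univ i))) k hr
    rw [← Submodule.iSup_torsionBySet_ideal_eq_torsionBySet_iInf hp] at hmem
    refine (iSup₂_le fun i _ => ?_ : _ ≤ ⨆ n : MaximalSpectrum B, ptor n.asIdeal (Coext A B E)) hmem
    refine le_iSup_of_le i fun x hx => ⟨k, fun r hr => ?_⟩
    exact (Submodule.mem_torsionBySet_iff _ _).1 hx ⟨r, hr⟩

end GrothMatlis
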