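import Groth.Agent.Matlis.BaseChange
import Groth.Agent.Matlis.Localize
import Mathlib.RingTheory.Flat.Localization
import Mathlib.RingTheory.Localization.BaseChange
import Mathlib.RingTheory.Flat.Stability
import Mathlib.LinearAlgebra.DirectSum.TensorProduct

/-!
# Injectives along flat ring maps unramified at every prime

Helper library (no milestone statements here).
-/

universe u

open TensorProduct

namespace GrothMatlis

open InjHull

variable {A B : Type u} [CommRing A] [CommRing B] [Algebra A B] [IsNoetherianRing A]
  [IsNoetherianRing B] [Module.Flat A B]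
variable {E : Type u} [AddCommGroup E] [Module A E]

theorem injective_localized_tensor_hull (p : Ideal A) [p.IsPrime] {f : (A ⧸ p) →ₗ[A] E}
    (hf : IsInjectiveHull f) (q : Ideal B) [q.IsPrime] (hqp : q.comap (algebraMap A B) = p)
    (hq : Ideal.map (algebraMap B (Localization.AtPrime q)) (p.map (algebraMap A B)) =
      IsLocalRing.maximalIdeal (Localization.AtPrime q)) :
    Module.Injective (Localization.AtPrime q) (LocalizedModule q.primeCompl (B ⊗[A] E)) := by
  let σ := Localization.localRingHom p q (algebraMap A B) hqp.symm
  haveI : IsLocalHom σ := Localization.isLocalHom_localRingHom p q (algebraMap A B) hqp.symm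
  letI : Algebra (Localization.AtPrime p) (Localization.AtPrime q) := σ.toAlgebra
  haveI : IsScalarTower A (Localization.AtPrime p) (Localization.AtPrime q) :=
    IsScalarTower.of_algebraMap_eq fun x => by
      rw [RingHom.algebraMap_toAlgebra, Localization.localRingHom_to_map,
        ← IsScalarTower.algebraMap_apply]
  haveI : IsLocalHom (algebraMap (Localization.AtPrime p) (Localization.AtPrime q)) := by
    rw [RingHom.algebraMap_toAlgebra]
    exact ‹IsLocalHom σ›
  haveI : Module.Flat A (Localization.AtPrime q) := Module.Flat.trans A B _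
  haveI : Module.Flat (Localization.AtPrime p) (Localization.AtPrime q) :=
    (Module.flat_iff_of_isLocalization (Localization.AtPrime p) p.primeCompl
      (Localization.AtPrime q)).2 inferInstance
  have hm : (IsLocalRing.maximalIdeal (Localization.AtPrime p)).map
      (algebraMap (Localization.AtPrime p) (Localization.AtPrime q)) =
        IsLocalRing.maximalIdeal (Localization.AtPrime q) := by
    rw [← Localization.AtPrime.map_eq_maximalIdeal, Ideal.map_map, ← IsScalarTower.algebraMap_eq,
      ← hq, Ideal.map_map, ← IsScalarTower.algebraMap_eq]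
  have hd : Disjoint (p : Set A) p.primeCompl := Set.disjoint_right.2 fun s hs => hs
  obtain ⟨g, hg⟩ := hull_localized_quotient p.primeCompl p hf hd
  have hb := hull_localized_bijective p.primeCompl p hf hd
  obtain ⟨g', hg'⟩ := exists_hull_baseChange (B := Localization.AtPrime q)
    (hull_precomp hg (Submodule.quotEquivOfEq _ _ Localization.AtPrime.map_eq_maximalIdeal).symm) hm
  haveI := IsLocalization.tensorProduct_compatibleSMul (R := A) p.primeCompl
    (Localization.AtPrime p) (Localization.AtPrime q) (LocalizedModule p.primeCompl E)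
  let e : (Localization.AtPrime q) ⊗[Localization.AtPrime p] (LocalizedModule p.primeCompl E)
      ≃ₗ[Localization.AtPrime q] (Localization.AtPrime q) ⊗[A] E :=
    (TensorProduct.equivOfCompatibleSMul A (Localization.AtPrime p) (Localization.AtPrime q)
      (Localization.AtPrime q) (LocalizedModule p.primeCompl E)) ≪≫ₗ
    TensorProduct.AlgebraTensorModule.congr (LinearEquiv.refl (Localization.AtPrime q) _)
      (LinearEquiv.ofBijective _ hb).symm
  have hinj : Module.Injective (Localization.AtPrime q) ((Localization.AtPrime q) ⊗[A] E) :=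
    injective_of_equiv hg'.isInjective e.symm
  let φ : B ⊗[A] E →ₗ[B] (Localization.AtPrime q) ⊗[A] E :=
    TensorProduct.AlgebraTensorModule.rTensor A E (Algebra.linearMap B (Localization.AtPrime q))
  haveI : IsLocalizedModule q.primeCompl φ := by infer_instance
  exact injective_of_equiv hinj ((IsLocalizedModule.iso q.primeCompl φ).extendScalarsOfIsLocalization
    q.primeCompl (Localization.AtPrime q))

theorem injective_tensor_hull (h : ∀ q : PrimeSpectrum B,
      Ideal.map (algebraMap B (Localization.AtPrime q.asIdeal))
        ((q.asIdeal.comap (algebraMap A B)).map (algebraMap A B)) =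
          IsLocalRing.maximalIdeal (Localization.AtPrime q.asIdeal))
    (p : Ideal A) [p.IsPrime] {f : (A ⧸ p) →ₗ[A] E} (hf : IsInjectiveHull f) :
    Module.Injective B (B ⊗[A] E) := by
  obtain ⟨H, _, _, j, hj⟩ := exists_hull B (B ⊗[A] E)
  -- elements outside `p` act bijectively on the hull
  have hbij : ∀ s : A, s ∉ p → Function.Bijective (fun x : H => algebraMap A B s • x) := by
    intro s hs
    let μ := LinearMap.lsmul B H (algebraMap A B s)
    have hX : Function.Bijective (fun x : B ⊗[A] E => algebraMap A B s • x) := by
      have he : (fun x : B ⊗[A] E => algebraMap A B s • x) =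
          (LinearMap.lsmul A E s).lTensor B := by
        funext x
        induction x using TensorProduct.induction_on with
        | zero => rw [map_zero, smul_zero]
        | tmul b e => simp [TensorProduct.smul_tmul']
        | add z w hz hw => rw [map_add, smul_add, hz, hw]
      rw [he]
      exact ((LinearEquiv.ofBijective (LinearMap.lsmul A E s)
        (smul_bijective_hull p hf hs)).lTensor B).bijective
    have hμ : Function.Injective μ := IsEssentialInj.injective_of_comp hj.toIsEssentialInj
      fun a b hab => hX.1 (hj.injective (by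
        rw [map_smul, map_smul]
        exact hab))
    refine ⟨hμ, ?_⟩
    obtain ⟨C, hC⟩ := exists_isCompl_of_injective hj.isInjective μ hμ
    have hle : LinearMap.range j ≤ LinearMap.range μ := by
      rintro _ ⟨x, rfl⟩
      obtain ⟨y, hy⟩ := hX.2 x
      refine ⟨j y, ?_⟩
      rw [← show algebraMap A B s • y = x from hy, map_smul]
      rfl
    have hC0 : C = ⊥ := IsEssentialInj.disjoint_eq_bot hj.toIsEssentialInj (le_bot_iff.1
      (le_trans (inf_le_inf_left _ hle) (by rw [inf_comm, hC.inf_eq_bot])))
    have : LinearMap.range μ = ⊤ := by simpa [hC0] using hC.sup_eq_top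
    exact LinearMap.range_eq_top.1 this
  -- the hull is `pB`-power torsion
  let J := p.map (algebraMap A B)
  let G : Submodule B H :=
    { carrier := {x | ∃ n : ℕ, ∀ r ∈ J ^ n, r • x = 0}
      zero_mem' := ⟨0, fun r _ => smul_zero r⟩
      add_mem' := by
        rintro x y ⟨k, hk⟩ ⟨l, hl⟩
        refine ⟨k + l, fun r hr => ?_⟩
        rw [smul_add, hk r (Ideal.pow_le_pow_right (Nat.le_add_right k l) hr),
          hl r (Ideal.pow_le_pow_right (Nat.le_add_left l k) hr), add_zero]
      smul_mem' := by
        rintro c x ⟨k, hk⟩
        exact ⟨k, fun r hr => by rw [smul_comm, hk r hr, smul_zero]⟩ }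
  have hG : G = ⊤ := eq_top_of_injective_of_range_le hj.toIsEssentialInj
    (powerTorsion_injective hj.isInjective J G fun x => Iff.rfl) (by
      rintro _ ⟨x, rfl⟩
      induction x using TensorProduct.induction_on with
      | zero => rw [map_zero]; exact zero_mem _
      | add z w hz hw => rw [map_add]; exact add_mem hz hw
      | tmul b e =>
        obtain ⟨n, hn⟩ := hull_ptor_eq_top p hf e
        refine ⟨n, fun r hr => ?_⟩
        rw [← Ideal.map_pow] at hr
        rw [← map_smul]
        suffices h0 : r • (b ⊗ₜ[A] e) = 0 by rw [h0, map_zero]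
        refine Submodule.span_induction (fun y hy => ?_) (zero_smul B _)
          (fun y y' _ _ h h' => by rw [add_smul, h, h', add_zero])
          (fun c y _ h => by rw [smul_eq_mul, mul_smul, h, smul_zero]) hr
        obtain ⟨t, ht, rfl⟩ := hy
        rw [algebraMap_smul, ← TensorProduct.tmul_smul, hn t ht, TensorProduct.tmul_zero])
  -- the cokernel has no associated prime
  suffices hsub : Subsingleton (H ⧸ LinearMap.range j) by
    rw [Submodule.Quotient.subsingleton_iff] at hsub
    exact injective_of_equiv hj.isInjective (LinearEquiv.ofBijective j ⟨hj.injective,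
      LinearMap.range_eq_top.1 hsub⟩)
  by_contra hns
  rw [not_subsingleton_iff_nontrivial] at hns
  obtain ⟨q, hq⟩ := associatedPrimes.nonempty B (H ⧸ LinearMap.range j)
  obtain ⟨hqprime, g, hg⟩ := (isAssociatedPrime_iff_exists_injective_linearMap q _).1 hq
  let c := g 1
  have hc : ∀ b : B, b • c = 0 ↔ b ∈ q := fun b => by
    rw [← map_smul, (injective_iff_map_eq_zero' _).1 hg, Algebra.smul_def, mul_one,
      Ideal.Quotient.algebraMap_eq, Ideal.Quotient.eq_zero_iff_mem]
  have hqp : q.comap (algebraMap A B) = p := by
    refine le_antisymm (fun s hs => ?_) ?_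
    · by_contra hsp
      obtain ⟨h₀, hh₀⟩ := (LinearMap.range j).mkQ_surjective c
      have h0 := (hc _).2 (Ideal.mem_comap.1 hs)
      rw [← hh₀, ← map_smul, Submodule.mkQ_apply, Submodule.Quotient.mk_eq_zero] at h0
      obtain ⟨x, hx⟩ := h0
      have hXs : ∃ y : B ⊗[A] E, algebraMap A B s • y = x := by
        have hsurj := ((LinearEquiv.ofBijective (LinearMap.lsmul A E s)
          (smul_bijective_hull p hf hsp)).lTensor B).surjective x
        obtain ⟨y, hy⟩ := hsurj
        refine ⟨y, ?_⟩
        rw [← hy]
        clear hy
        induction y using TensorProduct.induction_on with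
        | zero => rw [map_zero, smul_zero]
        | tmul b e => rw [algebraMap_smul, ← TensorProduct.tmul_smul]; rfl
        | add z w hz hw => rw [map_add, smul_add, hz, hw]
      obtain ⟨y, hy⟩ := hXs
      have h1 : j y = h₀ := (hbij s hsp).1 (by
        show algebraMap A B s • j y = algebraMap A B s • h₀
        rw [← map_smul, hy, hx])
      have hcne : c ≠ 0 := fun h => hqprime.ne_top ((Ideal.eq_top_iff_one _).2
        ((hc 1).1 (by rw [h, smul_zero])))
      exact hcne (hh₀ ▸ (Submodule.Quotient.mk_eq_zero _).2 ⟨y, h1⟩)
    · obtain ⟨h₀, hh₀⟩ := (LinearMap.range j).mkQ_surjective c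
      obtain ⟨n, hn⟩ := (hG ▸ Submodule.mem_top : h₀ ∈ G)
      intro s hs
      refine Ideal.mem_comap.2 (hqprime.mem_of_pow_mem n ((hc _).1 ?_))
      rw [← hh₀, ← map_smul, hn _ (Ideal.pow_mem_pow (Ideal.mem_map_of_mem _ hs) n), map_zero]
  haveI := injective_localized_tensor_hull p hf q hqp (hqp ▸ h ⟨q, hqprime⟩)
  have hsurj : Function.Surjective (LocalizedModule.map q.primeCompl j) :=
    surjective_of_essential ‹_› (hull_localizedMap q.primeCompl hj).toIsEssentialInj
  obtain ⟨h₀, hh₀⟩ := (LinearMap.range j).mkQ_surjective c
  obtain ⟨z, hz⟩ := hsurj (LocalizedModule.mk h₀ 1)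
  induction z using LocalizedModule.induction_on with
  | h x s =>
    rw [LocalizedModule.map_mk, LocalizedModule.mk_eq] at hz
    obtain ⟨t, ht⟩ := hz
    refine (t * s).2 ((hc _).1 ?_)
    rw [← hh₀, ← map_smul, Submodule.mkQ_apply, Submodule.Quotient.mk_eq_zero]
    refine ⟨(t : B) • x, ?_⟩
    rw [map_smul, Submonoid.coe_mul, mul_smul]
    simpa [Submonoid.smul_def] using ht

theorem injective_tensor (h : ∀ q : PrimeSpectrum B,
      Ideal.map (algebraMap B (Localization.AtPrime q.asIdeal))
        ((q.asIdeal.comap (algebraMap A B)).map (algebraMap A B)) =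
          IsLocalRing.maximalIdeal (Localization.AtPrime q.asIdeal))
    {I : Type u} [AddCommGroup I] [Module A I] (hI : Module.Injective A I) :
    Module.Injective B (B ⊗[A] I) := by
  classical
  obtain ⟨ι, F, hF, hprop⟩ := exists_decomposition hI
  have key : ∀ i, Module.Injective B (B ⊗[A] F i) := fun i => by
    obtain ⟨p, hp, f, hf⟩ := exists_prime_hull (hprop i).1 (hprop i).2
    exact injective_tensor_hull h p hf
  refine injective_of_equiv (directSum_injective _ key) ?_
  refine TensorProduct.AlgebraTensorModule.congr (LinearEquiv.refl B B)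
    (LinearEquiv.ofBijective (DirectSum.coeLinearMap F) hF).symm ≪≫ₗ ?_
  exact TensorProduct.directSumRight A B B (fun i => F i)

end GrothMatlis
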